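import Mathlib
import Cfsg.Prelude.Def_Sz
import Cfsg.Agent.ThreePrime.SzAut
set_option linter.all false

-- part: ThreePrime/SzData
section
/-!
# Abstract data on the Suzuki groups used in the analysis of groups of order prime to 3

`SzData J T D` collects the facts on `J = Sz(q)` (`T` a Sylow 2-subgroup, `D` a torus normalising `T`) which are
needed in the proof that simple groups of order prime to 3 have a strongly embedded subgroup.
-/

set_option autoImplicit false
set_option linter.dupNamespace false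

namespace Cfsg.Agent.ThreePrime.SzData

universe u

/-- Facts on `J ≃* Sz(q)`, `q ≥ 8`: `T` is a Sylow 2-subgroup, `D` (of order `q - 1`) a complement of `T` in its
normalizer. -/
structure SzData (J : Type u) [Group J] (T D : Subgroup J) : Prop where
  /-- `T` is a 2-group. -/
  two : IsPGroup 2 T
  /-- `T` is a TI-subgroup. -/
  ti : ∀ g x : J, x ∈ T → x ≠ 1 → g * x * g⁻¹ ∈ T → g ∈ Subgroup.normalizer (T : Set J)
  D_le : D ≤ Subgroup.normalizer (T : Set J)
  /-- `N(T) = T D`. -/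
  norm : ∀ g ∈ Subgroup.normalizer (T : Set J), ∃ t ∈ T, ∃ d ∈ D, g = t * d
  odd : Odd (Nat.card D)
  /-- the involutions of `T` are central and the centre has exponent 2. -/
  sq_iff : ∀ x ∈ T, (x * x = 1 ↔ ∀ y ∈ T, x * y = y * x)
  /-- squares are central, `T` has class two. -/
  sq_sq : ∀ x ∈ T, (x * x) * (x * x) = 1
  /-- the commutator subgroup of `T` is its centre. -/
  comm_eq : ⁅T, T⁆ = T ⊓ Subgroup.centralizer (T : Set J)
  /-- centralizers in `T` of elements of order 4 are abelian. -/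
  abel : ∀ u ∈ T, u * u ≠ 1 → ∀ x ∈ T, ∀ y ∈ T, x * u = u * x → y * u = u * y → x * y = y * x
  /-- `D` is transitive on the involutions of `T`. -/
  trans : ∀ z ∈ T, ∀ z' ∈ T, z ≠ 1 → z' ≠ 1 → z * z = 1 → z' * z' = 1 → ∃ d ∈ D, d * z * d⁻¹ = z'
  /-- `D` acts fixed point freely on `T`. -/
  fpf : ∀ d ∈ D, ∀ x ∈ T, d * x * d⁻¹ = x → d = 1 ∨ x = 1
  /-- there is no nontrivial `D`-invariant bilinear map on `T/Z(T)` with trivial action on the values. -/
  noform : ∀ (M : Type u) [CommGroup M] (f : J → J → M),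
    (∀ x ∈ T, ∀ y ∈ T, ∀ z ∈ T, f (x * y) z = f x z * f y z) →
    (∀ x ∈ T, ∀ y ∈ T, ∀ z ∈ T, f x (y * z) = f x y * f x z) →
    (∀ d ∈ D, ∀ x ∈ T, ∀ y ∈ T, f (d * x * d⁻¹) (d * y * d⁻¹) = f x y) →
    (∀ x ∈ T, x * x = 1 → ∀ y ∈ T, f x y = 1) →
    (∀ x ∈ T, x * x = 1 → ∀ y ∈ T, f y x = 1) →
    ∀ x ∈ T, ∀ y ∈ T, f x y = 1
  /-- `T` has at least 7 involutions. -/
  card : 8 ≤ Nat.card (T ⊓ Subgroup.centralizer (T : Set J) : Subgroup J)
  /-- automorphisms of `2`-power order are inner. -/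
  inner : ∀ φ : MulAut J, (∃ n : ℕ, φ ^ 2 ^ n = 1) → ∃ j : J, φ = MulAut.conj j
  /-- automorphisms of odd order centralising `T` are trivial. -/
  cent : ∀ φ : MulAut J, Odd (orderOf φ) → (∀ x ∈ T, φ x = x) → φ = 1

end Cfsg.Agent.ThreePrime.SzData
end

-- part: ThreePrime/SzDataExists
section
/-!
# The Suzuki groups have the data `SzData`
-/

set_option autoImplicit false

open scoped commutatorElement Pointwise

namespace Cfsg.Agent.ThreePrime.SzRel

variable {J : Type*} [Group J] {F : Type*} [Field F]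

namespace Rel

variable (R : Rel J F)

/-- `T` is a Sylow 2-subgroup -/
theorem exists_sylow_eq [Finite J] [Fintype F] {m : ℕ} (hm : 1 ≤ m) (hF : Fintype.card F = 2 ^ (2 * m + 1)) :
    ∃ P : Sylow 2 J, (P : Subgroup J) = R.T := by
  have h8 : 8 ≤ Nat.card F := by
    rw [Nat.card_eq_fintype_card, hF]
    exact eight_le hm
  have : Fact (Nat.Prime 2) := ⟨Nat.prime_two⟩
  obtain ⟨P, hP⟩ := R.isPGroup.exists_le_sylow
  refine ⟨P, le_antisymm ?_ hP⟩
  -- elements of `P ∩ N(T)` are in `T`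
  have key : ∀ g ∈ (P : Subgroup J), g ∈ Subgroup.normalizer (R.T : Set J) → g ∈ R.T := by
    intro g hg hgn
    obtain ⟨a, b, k, rfl⟩ := R.norm hgn
    have h1 : R.d k ∈ (P : Subgroup J) := by
      have := mul_mem (inv_mem (hP (R.u_mem a b))) hg
      rwa [inv_mul_cancel_left] at this
    have h2 : R.d k = 1 := by
      obtain ⟨n, hn⟩ := P.isPGroup' ⟨R.d k, h1⟩
      have hn' : R.d k ^ 2 ^ n = 1 := congrArg Subtype.val hn
      have h3 : orderOf (R.d k) ∣ 2 ^ n := orderOf_dvd_of_pow_eq_one hn'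
      have h4 : orderOf (R.d k) ∣ Nat.card R.D := by
        have := orderOf_dvd_natCard (⟨R.d k, R.d_mem k⟩ : R.D)
        rwa [Subgroup.orderOf_mk] at this
      have h5 : Nat.Coprime (2 ^ n) (Nat.card R.D) :=
        Nat.Coprime.pow_left _ ((Nat.coprime_two_left).2 (R.odd_D hF))
      exact orderOf_eq_one_iff.mp (Nat.eq_one_of_dvd_coprimes h5 h3 h4)
    rw [h2, mul_one]
    exact R.u_mem a b
  have hnt : Nontrivial (P : Subgroup J) := by
    refine ⟨⟨⟨R.u 0 1, hP (R.u_mem 0 1)⟩, 1, ?_⟩⟩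
    intro h
    exact R.u_ne_one one_ne_zero (congrArg Subtype.val h)
  have hc := P.isPGroup'.center_nontrivial
  obtain ⟨⟨⟨x, hxP⟩, hxc⟩, hx1⟩ := exists_ne (1 : Subgroup.center (P : Subgroup J))
  have hx1 : x ≠ 1 := by
    rintro rfl
    exact hx1 rfl
  rw [Subgroup.mem_center_iff] at hxc
  have hxc : ∀ g ∈ (P : Subgroup J), g * x = x * g := fun g hg => congrArg Subtype.val (hxc ⟨g, hg⟩)
  have hxT : x ∈ R.T := by
    refine key x hxP ?_
    refine R.ti (R.u_mem 0 1) (R.u_ne_one one_ne_zero) ?_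
    rw [← hxc _ (hP (R.u_mem 0 1)), mul_inv_cancel_right]
    exact R.u_mem 0 1
  intro g hg
  refine key g hg (R.ti hxT hx1 ?_)
  rw [hxc g hg, mul_inv_cancel_right]
  exact hxT

theorem map_conj_T (φ : MulAut J) (P : Sylow 2 J) (h : (P : Subgroup J) = R.T)
    (hφ : φ • P = P) : ∀ x ∈ R.T, φ x ∈ R.T := by
  intro x hx
  have h1 : φ x ∈ ((φ • P : Sylow 2 J) : Subgroup J) := by
    rw [Sylow.pointwise_smul_def]
    rw [← h] at hx
    exact Subgroup.smul_mem_pointwise_smul _ φ _ hx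
  rwa [hφ, h] at h1

include R in
/-- automorphisms of `2`-power order are inner -/
theorem inner [Finite J] [Fintype F] {m : ℕ} (hm : 1 ≤ m) (hF : Fintype.card F = 2 ^ (2 * m + 1))
    (φ : MulAut J) (hφ : ∃ n : ℕ, φ ^ 2 ^ n = 1) : ∃ j : J, φ = MulAut.conj j := by
  have : Fact (Nat.Prime 2) := ⟨Nat.prime_two⟩
  obtain ⟨P, hP⟩ := R.exists_sylow_eq hm hF
  -- a fixed Sylow subgroup
  obtain ⟨n, hn⟩ := hφ
  have h1 : ∃ Q : Sylow 2 J, φ • Q = Q := by
    have hz : IsPGroup 2 (Subgroup.zpowers φ) := by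
      rintro ⟨x, k, rfl⟩
      refine ⟨n, ?_⟩
      apply Subtype.ext
      show (φ ^ k) ^ 2 ^ n = 1
      rw [← zpow_natCast, zpow_comm, zpow_natCast, hn, one_zpow]
    obtain ⟨Q, hQ⟩ := hz.nonempty_fixed_point_of_prime_not_dvd_card (Sylow 2 J) (by
      have h2 := card_sylow_modEq_one 2 J
      intro h3
      have h4 := (Nat.modEq_zero_iff_dvd.2 h3).symm.trans h2
      revert h4
      decide)
    exact ⟨Q, hQ ⟨φ, Subgroup.mem_zpowers φ⟩⟩
  obtain ⟨Q, hQ⟩ := h1
  obtain ⟨g, hg⟩ := MulAction.exists_smul_eq J P Q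
  -- replace `φ` by a conjugate
  let φ' : MulAut J := MulAut.conj g⁻¹ * φ * MulAut.conj g
  have hφ'n : φ' ^ 2 ^ n = 1 := by
    have h2 : φ' = MulAut.conj g⁻¹ * φ * (MulAut.conj g⁻¹)⁻¹ := by
      rw [← map_inv, inv_inv]
    rw [h2, conj_pow, hn, mul_one, mul_inv_cancel]
  have hφ'P : φ' • P = P := by
    show (MulAut.conj g⁻¹ * φ * MulAut.conj g) • P = P
    have h3 : ∀ (x : J) (Q : Sylow 2 J), MulAut.conj x • Q = x • Q := fun x Q => rfl
    rw [mul_smul, mul_smul, h3 g P, hg, hQ, h3, ← hg, inv_smul_smul]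
  have hT := R.map_conj_T φ' P hP hφ'P
  -- fix `T ^ w`
  have hw : ∃ s ∈ R.T, R.w * (s * φ' R.w) ∈ Subgroup.normalizer (R.T : Set J) := by
    rcases R.bruhat (φ' R.w) with ⟨a, b, k, h⟩ | ⟨a, b, c, e, k, h⟩
    · exfalso
      have h3 : φ' R.w ∈ Subgroup.normalizer (R.T : Set J) := by
        rw [h]
        exact R.ud_mem_normalizer a b k
      have h4 : φ' (R.w * R.u 0 1 * R.w⁻¹) ∈ R.T := by
        rw [map_mul, map_mul, map_inv]
        exact (Subgroup.mem_normalizer_iff.1 h3 _).1 (hT _ (R.u_mem 0 1))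
      have h5 : R.w * R.u 0 1 * R.w⁻¹ ∈ R.T := by
        have h6 : (φ'⁻¹ : MulAut J) • P = P := by
          rw [inv_smul_eq_iff, hφ'P]
        have := R.map_conj_T φ'⁻¹ P hP h6 _ h4
        rwa [MulAut.inv_apply_self] at this
      exact R.w_not_mem_normalizer (R.ti (R.u_mem 0 1) (R.u_ne_one one_ne_zero) h5)
    · refine ⟨(R.u a b)⁻¹, inv_mem (R.u_mem a b), ?_⟩
      have h3 : R.w * ((R.u a b)⁻¹ * φ' R.w) = R.u c e * R.d k := by
        rw [h]
        have h4 : R.w * ((R.u a b)⁻¹ * (R.u a b * R.w * (R.u c e * R.d k))) =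
            (R.w * R.w) * (R.u c e * R.d k) := by group
        rw [h4, R.w_mul_w, one_mul]
      rw [h3]
      exact R.ud_mem_normalizer c e k
  obtain ⟨s, hs, hw⟩ := hw
  let ψ : MulAut J := MulAut.conj s * φ'
  have hψ : ∀ j : ℕ, ∃ t ∈ R.T, ψ ^ j = MulAut.conj t * φ' ^ j := by
    intro j
    induction j with
    | zero => exact ⟨1, one_mem _, by simp⟩
    | succ j ih =>
      obtain ⟨t, ht, h3⟩ := ih
      refine ⟨s * φ' t, mul_mem hs (hT t ht), ?_⟩
      rw [pow_succ', h3, pow_succ']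
      ext x
      show s * φ' (t * (φ' ^ j) x * t⁻¹) * s⁻¹ = s * φ' t * φ' ((φ' ^ j) x) * (s * φ' t)⁻¹
      rw [map_mul, map_mul, map_inv]
      group
  have hψn : ψ ^ 2 ^ (n + 2) = 1 := by
    obtain ⟨t, ht, h3⟩ := hψ (2 ^ n)
    rw [pow_add, pow_mul, h3, hφ'n, mul_one, ← map_pow]
    have h4 : t ^ 2 ^ 2 = 1 := R.pow_four ht
    rw [h4, map_one]
  have hψT : ∀ x ∈ R.T, ψ x ∈ R.T := by
    intro x hx
    exact mul_mem (mul_mem hs (hT x hx)) (inv_mem hs)
  have hψw : R.w * ψ R.w ∈ Subgroup.normalizer (R.T : Set J) := by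
    have h3 : R.w * ψ R.w = (R.w * (s * φ' R.w)) * s⁻¹ := by
      show R.w * (s * φ' R.w * s⁻¹) = _
      group
    rw [h3]
    exact mul_mem hw (Subgroup.le_normalizer (inv_mem hs))
  have hψ1 : ψ = 1 := R.eq_one_of_fix (R.centralises hm hF hψT hψw hψn) hψw
  refine ⟨g * s⁻¹ * g⁻¹, ?_⟩
  have h5 : φ = MulAut.conj g * (MulAut.conj s)⁻¹ * ψ * (MulAut.conj g)⁻¹ := by
    show φ = MulAut.conj g * (MulAut.conj s)⁻¹ * (MulAut.conj s * (MulAut.conj g⁻¹ * φ * MulAut.conj g)) *
      (MulAut.conj g)⁻¹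
    rw [map_inv]
    group
  rw [h5, hψ1, mul_one, map_mul, map_mul, map_inv, map_inv]

/-- automorphisms of odd order centralising `T` are trivial -/
theorem cent [Finite J] [Fintype F] {m : ℕ} (hm : 1 ≤ m) (hF : Fintype.card F = 2 ^ (2 * m + 1))
    (φ : MulAut J) (hodd : Odd (orderOf φ)) (hφ : ∀ x ∈ R.T, φ x = x) : φ = 1 := by
  have h8 : 8 ≤ Nat.card F := by
    rw [Nat.card_eq_fintype_card, hF]
    exact eight_le hm
  -- `φ` centralises `D`
  have hD : ∀ k, φ (R.d k) = R.d k := by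
    intro k
    have h1 : ∀ y ∈ R.T, ((R.d k)⁻¹ * φ (R.d k)) * y = y * ((R.d k)⁻¹ * φ (R.d k)) := by
      intro y hy
      have hy' : R.d k * y * (R.d k)⁻¹ ∈ R.T :=
        (Subgroup.mem_normalizer_iff.1 (R.D_le (R.d_mem k)) _).1 hy
      have h3 := hφ _ hy'
      rw [map_mul, map_mul, map_inv, hφ y hy] at h3
      have h4 : ((R.d k)⁻¹ * φ (R.d k)) * y = (R.d k)⁻¹ * (φ (R.d k) * y * (φ (R.d k))⁻¹) * φ (R.d k) := by group
      rw [h4, h3]
      group
    have h2 : (R.d k)⁻¹ * φ (R.d k) ∈ R.T := by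
      have h3 : (R.d k)⁻¹ * φ (R.d k) ∈ Subgroup.normalizer (R.T : Set J) := by
        refine R.ti (R.u_mem 0 1) (R.u_ne_one one_ne_zero) ?_
        rw [h1 _ (R.u_mem 0 1), mul_inv_cancel_right]
        exact R.u_mem 0 1
      obtain ⟨a, b, l, h4⟩ := R.norm h3
      have h5 := h1 _ (R.u_mem 0 1)
      rw [h4, mul_assoc, R.d_mul_u, ← mul_assoc, ← mul_assoc, R.u_mul, R.u_mul] at h5
      obtain ⟨-, h6, -⟩ := R.ud_inj h5
      have h7 : R.θ l = 1 := by
        simp only [one_mul, zero_mul, map_zero, mul_zero, add_zero] at h6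
        linear_combination h6
      have h8 : l = 1 := by
        apply Units.ext
        apply R.θ.injective
        rw [h7, Units.val_one, map_one]
      rw [h4, h8, R.d_one, mul_one]
      exact R.u_mem a b
    obtain ⟨a, b, h3⟩ := h2
    rw [h3, R.comm_all_iff h8] at h1
    subst h1
    have h4 : φ (R.d k) = R.d k * R.u 0 b := by
      rw [← h3, mul_inv_cancel_left]
    have h5 : ∀ j : ℕ, (φ ^ j) (R.d k) = R.d k * R.u 0 b ^ j := by
      intro j
      induction j with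
      | zero => simp
      | succ j ih =>
        rw [pow_succ', MulAut.mul_apply, ih, map_mul, map_pow, hφ _ (R.u_mem 0 b), h4, mul_assoc, pow_succ']
    have h6 := h5 (orderOf φ)
    rw [pow_orderOf_eq_one] at h6
    have h7 : R.u 0 b ^ orderOf φ = 1 := by
      exact mul_eq_left.mp h6.symm
    obtain ⟨j, hj⟩ := hodd
    have h8' : R.u 0 b * R.u 0 b = 1 := (R.u_sq_iff 0 b).2 rfl
    rw [hj, pow_succ, pow_mul, pow_two, h8', one_pow, one_mul] at h7
    rw [h4, h7, mul_one]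
  refine R.eq_one_of_fix hφ ?_
  -- `φ` fixes `T ^ w`
  rcases R.bruhat (φ R.w) with ⟨a, b, k, h⟩ | ⟨a, b, c, e, k, h⟩
  · exfalso
    have h1 : φ R.w = φ (R.u a b * R.d k) := by
      rw [map_mul, hφ _ (R.u_mem a b), hD, h]
    exact R.w_ne a b k (φ.injective h1)
  · obtain ⟨x, hx⟩ : ∃ k : Fˣ, k ≠ 1 := by
      obtain ⟨x, hx⟩ := R.exists_theta_ne h8
      have hx0 : x ≠ 0 := by
        rintro rfl
        exact hx (map_zero _)
      refine ⟨Units.mk0 x hx0, fun h1 => hx ?_⟩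
      have h2 : x = 1 := congrArg Units.val h1
      rw [h2, map_one]
    -- compare `φ (d x w) = φ (w d x⁻¹)`
    have h1 : R.w * φ R.w ∈ Subgroup.normalizer (R.T : Set J) := by
      have h2 : R.d x * φ R.w = φ R.w * R.d x⁻¹ := by
        rw [← hD x, ← hD x⁻¹, ← map_mul, ← map_mul]
        congr 1
        rw [R.w_mul_d, inv_inv]
      -- `u⁻¹ d u` normalises `T ^ w`
      have h3 : (R.u a b)⁻¹ * R.d x * R.u a b ∈ R.D := by
        refine R.mem_D_of ?_ ?_
        · exact mul_mem (mul_mem (inv_mem (Subgroup.le_normalizer (R.u_mem a b))) (R.D_le (R.d_mem x)))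
            (Subgroup.le_normalizer (R.u_mem a b))
        · have h4 : R.w * ((R.u a b)⁻¹ * R.d x * R.u a b) * R.w =
              (R.u c e * R.d k) * R.d x⁻¹ * (R.u c e * R.d k)⁻¹ := by
            have h5 : (R.u a b)⁻¹ * R.d x * R.u a b =
                R.w * (R.u c e * R.d k) * R.d x⁻¹ * (R.w * (R.u c e * R.d k))⁻¹ := by
              rw [h] at h2
              have h6 : (R.u a b)⁻¹ * (R.d x * (R.u a b * R.w * (R.u c e * R.d k))) =
                  (R.u a b)⁻¹ * ((R.u a b * R.w * (R.u c e * R.d k)) * R.d x⁻¹) := by rw [h2]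
              have h7 : (R.u a b)⁻¹ * R.d x * R.u a b =
                  ((R.u a b)⁻¹ * (R.d x * (R.u a b * R.w * (R.u c e * R.d k)))) *
                    (R.w * (R.u c e * R.d k))⁻¹ := by group
              rw [h7, h6]
              group
            have hww : R.w * R.w = 1 := R.w_mul_w
            have h8 : R.w * (R.w * (R.u c e * R.d k) * R.d x⁻¹ * (R.w * (R.u c e * R.d k))⁻¹) * R.w =
                (R.w * R.w) * (R.u c e * R.d k) * R.d x⁻¹ * (R.u c e * R.d k)⁻¹ := by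
              group
            rw [h5, h8, hww, one_mul]
          rw [h4]
          exact mul_mem (mul_mem (R.ud_mem_normalizer c e k) (R.D_le (R.d_mem _)))
            (inv_mem (R.ud_mem_normalizer c e k))
      obtain ⟨l, hl⟩ := h3
      have h5 : R.d x * R.u a b = R.u a b * R.d l := by
        rw [← hl]
        group
      have h6 := h5
      rw [R.d_mul_u] at h6
      obtain ⟨h7, h8, h9⟩ := R.ud_inj h6
      rw [← h9] at h5
      rcases R.fpf (by rw [h5, mul_inv_cancel_right] : R.d x * R.u a b * (R.d x)⁻¹ = R.u a b) with h10 | ⟨h10, h11⟩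
      · exact absurd h10 hx
      · rw [h, h10, h11, R.u_zero, one_mul, ← mul_assoc, R.w_mul_w, one_mul]
        exact R.ud_mem_normalizer c e k
    exact h1

end Rel

/-- The Suzuki groups have the data. -/
theorem exists_szData {J : Type*} [Group J] [Finite J] (h : Cfsg.Lie.IsoSuzuki J) (P : Sylow 2 J) :
    ∃ D, SzData.SzData J (P : Subgroup J) D := by
  have : Fact (Nat.Prime 2) := ⟨Nat.prime_two⟩
  obtain ⟨F, iF, iF', m, hm, hF, ⟨R₀⟩⟩ := exists_rel h
  have h8 : 8 ≤ Nat.card F := by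
    rw [Nat.card_eq_fintype_card, hF]
    exact Rel.eight_le hm
  obtain ⟨P₀, hP₀⟩ := R₀.exists_sylow_eq hm hF
  obtain ⟨g, hg⟩ := MulAction.exists_smul_eq J P₀ P
  let R : Rel J F := R₀.map (MulAut.conj g)
  have hT : R.T = (P : Subgroup J) := by
    rw [← hg]
    ext x
    rw [Sylow.coe_subgroup_smul, Subgroup.mem_pointwise_smul_iff_inv_smul_mem, hP₀]
    constructor
    · rintro ⟨a, b, rfl⟩
      refine ⟨a, b, ?_⟩
      show (MulAut.conj g)⁻¹ (MulAut.conj g (R₀.u a b)) = _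
      rw [MulAut.inv_apply_self]
    · rintro ⟨a, b, hx⟩
      refine ⟨a, b, ?_⟩
      show x = MulAut.conj g (R₀.u a b)
      rw [← hx]
      show x = MulAut.conj g ((MulAut.conj g)⁻¹ x)
      rw [MulAut.apply_inv_self]
  rw [← hT]
  refine ⟨R.D, ?_⟩
  exact
    { two := R.isPGroup
      ti := fun g x hx hx1 h => R.ti hx hx1 h
      D_le := R.D_le
      norm := by
        intro g hg
        obtain ⟨a, b, k, rfl⟩ := R.norm hg
        exact ⟨_, R.u_mem a b, _, R.d_mem k, rfl⟩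
      odd := R.odd_D hF
      sq_iff := R.sq_iff h8
      sq_sq := R.sq_sq
      comm_eq := R.comm_eq h8
      abel := R.abel
      trans := fun z hz z' hz' h1 h1' h2 h2' => R.trans z hz z' hz' h1 h1' h2 h2'
      fpf := fun d hd x hx h => R.fpf' d hd x hx h
      noform := fun M _ f h1 h2 h3 h4 h5 x hx y hy => R.noform h8 f h1 h2 h3 h4 h5 x hx y hy
      card := R.card_center h8
      inner := R.inner hm hF
      cent := R.cent hm hF }

end Cfsg.Agent.ThreePrime.SzRel
end
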