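import Mathlib
import Cfsg.Prelude.Def_Local
import Cfsg.Prelude.Def_TwoFusion
import Cfsg.Agent.Lib.Cores
import Cfsg.Agent.S0542
import Cfsg.Agent.SignalizersComponents.CompBasic
import Cfsg.Agent.SignalizersComponents.Components
import Cfsg.Agent.ThreePrime.AutQuot
import Cfsg.Agent.ThreePrime.SzDataExists
set_option linter.all false

-- part: ThreePrime/Comp
section
/-!
# Components of Suzuki type

`X` is a finite group of order prime to 3 with trivial core all of whose simple sections are Suzuki groups.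
-/

set_option autoImplicit false

namespace Cfsg.Agent.ThreePrime.Comp

open Subgroup
open Cfsg
open Cfsg.Agent.ThreePrime.SzData
open Cfsg.Agent.ThreePrime.AutQuot
open Cfsg.Agent.SignalizersComponents.CompBasic
open Cfsg.Agent.SignalizersComponents.Components

universe u

/-- Nonabelian simple groups of order prime to 3 and at most `|X|` are Suzuki groups. -/
def SzSec (X : Type u) [Group X] : Prop :=
  ∀ (K : Type u) [Group K] [Finite K] [IsSimpleGroup K], (∃ a b : K, a * b ≠ b * a) →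
    ¬ 3 ∣ Nat.card K → Nat.card K ≤ Nat.card X → Cfsg.Lie.IsoSuzuki K

/-- Our hypothesis on `X`. -/
structure Hyp (X : Type u) [Group X] : Prop where
  sec : SzSec X
  three : ¬ 3 ∣ Nat.card X
  core : Cfsg.oddCore X = ⊥

variable {X : Type u} [Group X] [Finite X]

theorem isoSuzuki (h : Hyp X) {J : Subgroup X} (hJ : IsComponent J) :
    Cfsg.Lie.IsoSuzuki (J ⧸ center J) := by
  have hs : IsSimpleGroup (J ⧸ center J) := hJ.2.2
  have hp := hJ.2.1
  refine h.sec _ ?_ ?_ ?_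
  · by_contra hcon
    push Not at hcon
    have hperf : Group.IsPerfect (J ⧸ center J) := inferInstance
    have hab : IsMulCommutative (J ⧸ center J) := ⟨⟨hcon⟩⟩
    exact Group.IsPerfect.not_isMulCommutative _ hab
  · intro h3
    exact h.three ((h3.trans (card_quotient_dvd_card _)).trans (card_subgroup_dvd_card J))
  · exact Nat.le_of_dvd Nat.card_pos ((card_quotient_dvd_card _).trans (card_subgroup_dvd_card J))

/-- The image in `J/Z(J)` of the Sylow 2-subgroup `S ∩ J` of `J`. -/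
noncomputable def Tq (S : Sylow 2 X) (J : Subgroup X) : Subgroup (J ⧸ center J) :=
  ((S : Subgroup X).subgroupOf J).map (QuotientGroup.mk' (center J))

theorem exists_sylow (S : Sylow 2 X) {J : Subgroup X} (hJ : IsComponent J) :
    ∃ P : Sylow 2 (J ⧸ center J), (P : Subgroup (J ⧸ center J)) = Tq S J := by
  obtain ⟨Q, hQ⟩ := Cfsg.Agent.S0542.result 2 J hJ.1 S
  refine ⟨Q.mapSurjective (QuotientGroup.mk'_surjective (center J)), ?_⟩
  rw [Sylow.coe_mapSurjective, hQ]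
  rfl

theorem exists_data (h : Hyp X) (S : Sylow 2 X) {J : Subgroup X} (hJ : IsComponent J) :
    ∃ D : Subgroup (J ⧸ center J), SzData (J ⧸ center J) (Tq S J) D := by
  obtain ⟨P, hP⟩ := exists_sylow S hJ
  obtain ⟨D, hD⟩ := Cfsg.Agent.ThreePrime.SzRel.exists_szData (isoSuzuki h hJ) P
  exact ⟨D, hP ▸ hD⟩

/-- The centre of a component is a 2-group. -/
theorem center_two (h : Hyp X) {J : Subgroup X} (hJ : IsComponent J) : IsPGroup 2 (center J) := by
  have hnorm : (center J).IsSubnormal := (inferInstance : (center J).Normal).isSubnormal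
  -- the odd part is trivial
  have key : ∀ z : J, z ∈ center J → Odd (orderOf z) → z = 1 := by
    intro z hz hodd
    have hzn : (zpowers z).Normal := by
      refine ⟨?_⟩
      rintro _ ⟨k, rfl⟩ g
      have h1 : z ^ k ∈ center J := zpow_mem hz k
      have h2 := mem_center_iff.1 h1 g
      simp only [h2, mul_inv_cancel_right]
      exact ⟨k, rfl⟩
    have hsub : ((zpowers z).map J.subtype).IsSubnormal := (hzn.isSubnormal).trans' hJ.1
    have hle : (zpowers z).map J.subtype ≤ pPrimeCore 2 X := by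
      apply subnormal_coprime_le_pPrimeCore hsub
      rw [card_map_of_injective J.subtype_injective, Nat.card_zpowers]
      exact (Nat.coprime_two_left.2 hodd).symm
    have hc : pPrimeCore 2 X = ⊥ := h.core
    rw [hc, le_bot_iff, map_eq_bot_iff_of_injective _ J.subtype_injective,
      zpowers_eq_bot] at hle
    exact hle
  rintro ⟨z, hz⟩
  obtain ⟨k, m, hm, hkm⟩ := Nat.exists_eq_two_pow_mul_odd (orderOf_pos z).ne'
  refine ⟨k, ?_⟩
  apply Subtype.ext
  change z ^ 2 ^ k = 1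
  apply key _ (pow_mem hz _)
  rw [orderOf_pow' _ (by positivity), hkm, Nat.gcd_eq_right (Dvd.intro _ rfl),
    Nat.mul_div_cancel_left _ (by positivity)]
  exact hm

/-- Elements of `S` normalising a component `J` act on `J` as elements of `S ∩ J`. -/
theorem exists_inner (h : Hyp X) (S : Sylow 2 X) {J : Subgroup X} (hJ : IsComponent J) {x : X}
    (hxS : x ∈ (S : Subgroup X)) (hxJ : x ∈ normalizer (J : Set X)) :
    ∃ j ∈ J, j ∈ (S : Subgroup X) ∧ ∀ k ∈ J, x * k * x⁻¹ = j * k * j⁻¹ := by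
  obtain ⟨D, hD⟩ := exists_data h S hJ
  set φ : MulAut J := J.normalizerMonoidHom ⟨x, hxJ⟩ with hφ
  obtain ⟨n, hn⟩ := S.isPGroup' ⟨x, hxS⟩
  have hxn : x ^ 2 ^ n = 1 := congrArg Subtype.val hn
  have hφn : φ ^ 2 ^ n = 1 := by
    rw [hφ, ← map_pow]
    have : (⟨x, hxJ⟩ : normalizer (J : Set X)) ^ 2 ^ n = 1 := Subtype.ext hxn
    rw [this, map_one]
  obtain ⟨q, hq⟩ := hD.inner (autQuot J φ) ⟨n, by rw [← map_pow, hφn, map_one]⟩
  obtain ⟨j, rfl⟩ := QuotientGroup.mk_surjective q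
  have hφj : φ = MulAut.conj j := eq_conj_of_autQuot_eq hJ.2.1 hq
  have hact : ∀ k ∈ J, x * k * x⁻¹ = j * k * (j : X)⁻¹ := by
    intro k hk
    have := congrArg (fun ψ : MulAut J => ((ψ ⟨k, hk⟩ : J) : X)) hφj
    exact this
  -- `j` is a 2-element
  have hj2 : ∃ m : ℕ, j ^ 2 ^ m = 1 := by
    have h1 : j ^ 2 ^ n ∈ center J := by
      rw [mem_center_iff]
      intro g
      have h2 : MulAut.conj (j ^ 2 ^ n) = 1 := by rw [map_pow, ← hφj, hφn]
      have h3 : j ^ 2 ^ n * g * (j ^ 2 ^ n)⁻¹ = g := congrArg (fun ψ : MulAut J => ψ g) h2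
      calc g * j ^ 2 ^ n = (j ^ 2 ^ n * g * (j ^ 2 ^ n)⁻¹) * j ^ 2 ^ n := by rw [h3]
        _ = j ^ 2 ^ n * g := by group
    obtain ⟨m, hm⟩ := center_two h hJ ⟨_, h1⟩
    refine ⟨n + m, ?_⟩
    have h4 : (j ^ 2 ^ n) ^ 2 ^ m = 1 := congrArg Subtype.val hm
    rw [pow_add, pow_mul, h4]
  obtain ⟨Q, hQ⟩ := Cfsg.Agent.S0542.result 2 J hJ.1 S
  have hjN : j ∈ normalizer ((Q : Subgroup J) : Set J) := by
    rw [mem_normalizer_iff]
    intro k
    rw [hQ, mem_subgroupOf, mem_subgroupOf]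
    have h5 : ((j * k * j⁻¹ : J) : X) = x * k * x⁻¹ := (hact k k.2).symm
    rw [h5]
    constructor
    · intro hk
      exact mul_mem (mul_mem hxS hk) (inv_mem hxS)
    · intro hk
      have := mul_mem (mul_mem (inv_mem hxS) hk) hxS
      have e : x⁻¹ * (x * k * x⁻¹) * x = (k : X) := by group
      rwa [e] at this
  have hjQ : j ∈ (Q : Subgroup J) := by
    obtain ⟨m, hm⟩ := hj2
    have hZ : IsPGroup 2 (zpowers j) := by
      rintro ⟨_, k, rfl⟩
      refine ⟨m, ?_⟩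
      apply Subtype.ext
      change (j ^ k) ^ 2 ^ m = 1
      rw [← zpow_natCast, ← zpow_mul, mul_comm, zpow_mul, zpow_natCast, hm, one_zpow]
    have h6 := hZ.inf_normalizer_sylow Q
    have h7 : j ∈ zpowers j ⊓ normalizer (Q : Set J) :=
      ⟨mem_zpowers j, hjN⟩
    rw [h6] at h7
    exact h7.2
  refine ⟨j, j.2, ?_, hact⟩
  rw [hQ, mem_subgroupOf] at hjQ
  exact hjQ

end Cfsg.Agent.ThreePrime.Comp
end

-- part: ThreePrime/AComp
section
/-!
# Strongly closed elementary abelian 2-subgroups and components of Suzuki type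
-/

set_option autoImplicit false

namespace Cfsg.Agent.ThreePrime.AComp

open Subgroup
open Cfsg
open Cfsg.Agent.ThreePrime.SzData
open Cfsg.Agent.ThreePrime.AutQuot
open Cfsg.Agent.ThreePrime.Comp
open Cfsg.Agent.SignalizersComponents.CompBasic
open Cfsg.Agent.SignalizersComponents.Components

universe u

variable {X : Type u} [Group X]

/-- `A` is an elementary abelian subgroup strongly closed in the Sylow 2-subgroup `S`. -/
structure SC (S : Sylow 2 X) (A : Subgroup X) : Prop where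
  sc : IsStronglyClosed A (S : Subgroup X)
  sq : ∀ x ∈ A, x * x = 1
  comm : ∀ x ∈ A, ∀ y ∈ A, x * y = y * x

theorem SC.le {S : Sylow 2 X} {A : Subgroup X} (hA : SC S A) : A ≤ (S : Subgroup X) := hA.sc.1

theorem SC.mem {S : Sylow 2 X} {A : Subgroup X} (hA : SC S A) {x g : X} (hx : x ∈ A)
    (hg : g * x * g⁻¹ ∈ (S : Subgroup X)) : g * x * g⁻¹ ∈ A := hA.sc.2 x hx g hg

theorem SC.conj_mem {S : Sylow 2 X} {A : Subgroup X} (hA : SC S A) {x s : X} (hx : x ∈ A)
    (hs : s ∈ (S : Subgroup X)) : s * x * s⁻¹ ∈ A :=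
  hA.mem hx (mul_mem (mul_mem hs (hA.le hx)) (inv_mem hs))

theorem SC.inv_eq {S : Sylow 2 X} {A : Subgroup X} (hA : SC S A) {x : X} (hx : x ∈ A) : x⁻¹ = x :=
  inv_eq_of_mul_eq_one_left (hA.sq x hx)

variable [Finite X] {S : Sylow 2 X} {A J : Subgroup X}

/-- the preimage of `Tq` in `J` is `S ∩ J`. -/
theorem mem_Tq (h : Hyp X) (hJ : IsComponent J) {y : J} :
    (QuotientGroup.mk y : J ⧸ center J) ∈ Tq S J ↔ (y : X) ∈ (S : Subgroup X) := by
  obtain ⟨Q, hQ⟩ := Cfsg.Agent.S0542.result 2 J hJ.1 S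
  constructor
  · rintro ⟨t, ht, hty⟩
    have h1 : t⁻¹ * y ∈ center J := QuotientGroup.eq.1 hty
    have h2 : t⁻¹ * y ∈ (Q : Subgroup J) := by
      have h3 : center J ≤ pCore 2 J :=
        Cfsg.Agent.Lib.Cores.le_pCore inferInstance (center_two h hJ)
      exact Cfsg.Agent.Lib.Cores.pCore_le_sylow Q (h3 h1)
    rw [hQ, mem_subgroupOf] at h2
    have h4 : (t : X) ∈ (S : Subgroup X) := ht
    have h5 := mul_mem h4 h2
    simpa using h5
  · intro hy
    exact ⟨y, hy, rfl⟩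

/-- some square of an element of `S ∩ J` is not central in `J`. -/
theorem exists_sq_not_central (h : Hyp X) (hJ : IsComponent J) :
    ∃ y ∈ J, y ∈ (S : Subgroup X) ∧ ∃ k ∈ J, y * y * k ≠ k * (y * y) := by
  obtain ⟨D, hD⟩ := exists_data h S hJ
  by_contra hcon
  push Not at hcon
  have h1 : ∀ t ∈ Tq S J, t * t = 1 := by
    rintro _ ⟨y, hy, rfl⟩
    have h2 : y * y ∈ center J := by
      rw [mem_center_iff]
      intro g
      exact Subtype.ext (hcon y y.2 hy g g.2).symm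
    exact (QuotientGroup.eq_one_iff (y * y)).2 h2
  have h2 : Tq S J ≤ centralizer (Tq S J : Set (J ⧸ center J)) := by
    intro t ht
    rw [mem_centralizer_iff]
    intro s hs
    exact ((hD.sq_iff t ht).1 (h1 t ht) s hs).symm
  have h3 : ⁅Tq S J, Tq S J⁆ = ⊥ := commutator_eq_bot_iff_le_centralizer.2 h2
  have h4 := hD.comm_eq
  have h5 := hD.card
  rw [← h4, h3] at h5
  simp at h5

/-- (2a) `A` normalises every component. -/
theorem mem_normalizer (h : Hyp X) (hA : SC S A) (hJ : IsComponent J) {x : X} (hx : x ∈ A) :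
    x ∈ normalizer (J : Set X) := by
  by_contra hxJ
  set J' := J.map (MulAut.conj x).toMonoidHom with hJ'
  have hne : J ≠ J' := by
    intro he
    apply hxJ
    rw [Subgroup.mem_normalizer_iff_map_conj_eq]
    exact he.symm
  have hcomm := component_commutator_eq_bot_of_ne hJ (isComponent_conj x hJ) hne
  rw [commutator_eq_bot_iff_le_centralizer] at hcomm
  obtain ⟨y, hyJ, hyS, k, hk, hne'⟩ := exists_sq_not_central (S := S) h hJ
  apply hne'
  set y' := x * y * x⁻¹ with hy'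
  have hy'J : y' ∈ J' := ⟨y, hyJ, rfl⟩
  have hc1 : ∀ z ∈ J, ∀ w ∈ J', w * z = z * w := by
    intro z hz w hw
    exact mem_centralizer_iff.1 (hcomm hz) w hw
  have hcA : y' * y⁻¹ ∈ A := by
    have h1 : y * x⁻¹ * y⁻¹ ∈ A := hA.conj_mem (inv_mem hx) hyS
    have h2 := mul_mem hx h1
    have e : x * (y * x⁻¹ * y⁻¹) = y' * y⁻¹ := by rw [hy']; group
    rwa [e] at h2
  have h1 := hA.sq _ hcA
  have h2 : y' * y' = y * y := by
    have h3 : y' * y⁻¹ = y⁻¹ * y' := hc1 _ (inv_mem hyJ) _ hy'J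
    calc y' * y' = (y' * y⁻¹) * (y * y') := by group
      _ = (y' * y⁻¹) * (y' * y) := by rw [hc1 y hyJ y' hy'J]
      _ = (y' * y⁻¹) * (y' * y⁻¹) * (y * y) := by group
      _ = y * y := by rw [h1, one_mul]
  rw [← h2]
  exact hc1 k hk _ (mul_mem hy'J hy'J)

/-- involutory action of elements of `A`. -/
theorem exists_elt (h : Hyp X) (hA : SC S A) (hJ : IsComponent J) {x : X} (hx : x ∈ A) :
    ∃ j : J, (j : X) ∈ (S : Subgroup X) ∧ (∀ k ∈ J, x * k * x⁻¹ = j * k * (j : X)⁻¹) ∧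
      (QuotientGroup.mk j : J ⧸ center J) * QuotientGroup.mk j = 1 := by
  obtain ⟨j, hjJ, hjS, hj⟩ := exists_inner h S hJ (hA.le hx) (mem_normalizer h hA hJ hx)
  refine ⟨⟨j, hjJ⟩, hjS, hj, ?_⟩
  rw [← QuotientGroup.mk_mul, QuotientGroup.eq_one_iff, mem_center_iff]
  rintro ⟨k, hk⟩
  apply Subtype.ext
  change k * (j * j) = j * j * k
  have h1 : x * (x * k * x⁻¹) * x⁻¹ = k := by
    calc x * (x * k * x⁻¹) * x⁻¹ = (x * x) * k * (x * x)⁻¹ := by
          simp only [mul_inv_rev, mul_assoc]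
      _ = k := by rw [hA.sq x hx]; simp
  have h2 : x * k * x⁻¹ ∈ J :=
    (Subgroup.mem_normalizer_iff.1 (mem_normalizer h hA hJ hx) k).1 hk
  rw [hj _ h2, hj k hk] at h1
  calc k * (j * j) = (j * (j * k * j⁻¹) * j⁻¹) * (j * j) := by rw [h1]
    _ = j * j * k := by group

/-- (2b) the elements of `A ∩ J` cover the involutions of `Z(T/Z(J))`, if `A` does not centralise `J`. -/
theorem exists_mem_inf (h : Hyp X) (hA : SC S A) (hJ : IsComponent J)
    (hAJ : ¬ A ≤ centralizer (J : Set X)) (q : J ⧸ center J) (hq : q ∈ Tq S J) (hq2 : q * q = 1) :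
    ∃ b : J, (b : X) ∈ A ∧ (QuotientGroup.mk b : J ⧸ center J) = q := by
  obtain ⟨D, hD⟩ := exists_data h S hJ
  obtain ⟨x, hx, hxJ⟩ : ∃ x ∈ A, x ∉ centralizer (J : Set X) := by
    by_contra hcon
    push Not at hcon
    exact hAJ hcon
  obtain ⟨j, hjS, hj, hj2⟩ := exists_elt h hA hJ hx
  set p : J ⧸ center J := QuotientGroup.mk j with hp
  have hpT : p ∈ Tq S J := (mem_Tq h hJ).2 hjS
  have hp1 : p ≠ 1 := by
    intro hp1
    apply hxJ
    rw [mem_centralizer_iff]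
    intro k hk
    rw [hp, QuotientGroup.eq_one_iff, mem_center_iff] at hp1
    have h1 : (j : X) * k * (j : X)⁻¹ = k := by
      have h2 := congrArg Subtype.val (hp1 ⟨k, hk⟩)
      have h2' : k * (j : X) = j * k := h2
      rw [← h2']; group
    rw [← hj k hk] at h1
    calc k * x = (x * k * x⁻¹) * x := by rw [h1]
      _ = x * k := by group
  -- the basic elements
  have key : ∀ r ∈ Tq S J, r ≠ 1 → r * r = 1 →
      ∃ b : J, (b : X) ∈ A ∧ (QuotientGroup.mk b : J ⧸ center J) = r * p⁻¹ := by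
    intro r hr hr1 hr2
    obtain ⟨d, hdD, hd⟩ := hD.trans p hpT r hr hp1 hr1 hj2 hr2
    obtain ⟨e, rfl⟩ := QuotientGroup.mk_surjective d
    have hw : (e : X) * x * (e : X)⁻¹ ∈ (S : Subgroup X) := by
      have h1 : (e : X) * x * (e : X)⁻¹ = ((e * j * e⁻¹ : J) : X) * ((j : X)⁻¹ * x) := by
        have h2 : ((j : X)⁻¹ * x) * (e : X)⁻¹ = (e : X)⁻¹ * ((j : X)⁻¹ * x) := by
          have h3 := hj (e : X)⁻¹ (inv_mem e.2)
          calc ((j : X)⁻¹ * x) * (e : X)⁻¹ = (j : X)⁻¹ * (x * (e : X)⁻¹ * x⁻¹) * x := by group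
            _ = (j : X)⁻¹ * (j * (e : X)⁻¹ * (j : X)⁻¹) * x := by rw [h3]
            _ = (e : X)⁻¹ * ((j : X)⁻¹ * x) := by group
        calc (e : X) * x * (e : X)⁻¹ = e * j * (((j : X)⁻¹ * x) * (e : X)⁻¹) := by group
          _ = e * j * ((e : X)⁻¹ * ((j : X)⁻¹ * x)) := by rw [h2]
          _ = ((e * j * e⁻¹ : J) : X) * ((j : X)⁻¹ * x) := by
              simp only [Subgroup.coe_mul, Subgroup.coe_inv, mul_assoc]
      rw [h1]
      refine mul_mem ?_ (mul_mem (inv_mem hjS) (hA.le hx))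
      rw [← mem_Tq h hJ, QuotientGroup.mk_mul, QuotientGroup.mk_mul, QuotientGroup.mk_inv, ← hp, hd]
      exact hr
    have hwA := hA.mem hx hw
    refine ⟨e * (j * e⁻¹ * j⁻¹), ?_, ?_⟩
    · have h3 := hj (e : X)⁻¹ (inv_mem e.2)
      have h4 : ((e * (j * e⁻¹ * j⁻¹) : J) : X) = ((e : X) * x * (e : X)⁻¹) * x⁻¹ := by
        simp only [Subgroup.coe_mul, Subgroup.coe_inv]
        rw [← h3]; group
      rw [h4]
      exact mul_mem hwA (inv_mem hx)
    · rw [← hd, hp]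
      simp only [QuotientGroup.mk_mul, QuotientGroup.mk_inv, mul_assoc]
  have hcent : ∀ r ∈ Tq S J, r * r = 1 → ∀ s ∈ Tq S J, r * s = s * r := fun r hr hr2 =>
    (hD.sq_iff r hr).1 hr2
  have hgen : ∀ r ∈ Tq S J, r * r = 1 → r * p ≠ 1 →
      ∃ b : J, (b : X) ∈ A ∧ (QuotientGroup.mk b : J ⧸ center J) = r := by
    intro r hr hr2 hrp
    obtain ⟨b, hb, hb'⟩ := key (r * p) (mul_mem hr hpT) hrp (by
      calc r * p * (r * p) = r * (p * r) * p := by simp only [mul_assoc]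
        _ = (r * r) * (p * p) := by rw [← hcent r hr hr2 p hpT]; simp only [mul_assoc]
        _ = 1 := by rw [hr2, hj2, one_mul])
    exact ⟨b, hb, by rw [hb', mul_inv_cancel_right]⟩
  by_cases hqp : q * p = 1
  · -- choose another involution
    obtain ⟨z, hzT, hz2, hz1, hzp⟩ : ∃ z ∈ Tq S J, z * z = 1 ∧ z ≠ 1 ∧ z ≠ p := by
      by_contra hcon
      push Not at hcon
      have h8 := hD.card
      have hsub : ((Tq S J ⊓ centralizer (Tq S J : Set (J ⧸ center J)) :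
          Subgroup (J ⧸ center J)) : Set (J ⧸ center J)) ⊆ {1, p} := by
        intro z hz
        have hz2 : z * z = 1 := (hD.sq_iff z hz.1).2
          (fun y hy => (mem_centralizer_iff.1 hz.2 y hy).symm)
        by_cases hz1 : z = 1
        · exact Or.inl hz1
        · exact Or.inr (hcon z hz.1 hz2 hz1)
      have h9 := Set.ncard_le_ncard hsub (Set.toFinite _)
      have h10 : ({1, p} : Set (J ⧸ center J)).ncard ≤ 2 := by
        have := Set.ncard_insert_le (1 : J ⧸ center J) {p}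
        rwa [Set.ncard_singleton] at this
      have h11 : ((Tq S J ⊓ centralizer (Tq S J : Set (J ⧸ center J)) :
          Subgroup (J ⧸ center J)) : Set (J ⧸ center J)).ncard =
          Nat.card (Tq S J ⊓ centralizer (Tq S J : Set (J ⧸ center J)) : Subgroup (J ⧸ center J)) :=
        (Nat.card_coe_set_eq _).symm
      omega
    have hzp' : z * p ≠ 1 := by
      intro hh
      apply hzp
      have : z = p⁻¹ := eq_inv_of_mul_eq_one_left hh
      rw [this]
      exact inv_eq_of_mul_eq_one_left hj2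
    obtain ⟨b₂, hb₂, hb₂'⟩ := hgen z hzT hz2 hzp'
    obtain ⟨b₁, hb₁, hb₁'⟩ := key z hzT hz1 hz2
    refine ⟨b₁⁻¹ * b₂, ?_, ?_⟩
    · exact mul_mem (inv_mem hb₁) hb₂
    · rw [QuotientGroup.mk_mul, QuotientGroup.mk_inv, hb₁', hb₂', mul_inv_rev, inv_inv,
        inv_mul_cancel_right]
      have : q = p⁻¹ := eq_inv_of_mul_eq_one_left hqp
      rw [this]
      exact (inv_eq_of_mul_eq_one_left hj2).symm
  · exact hgen q hq hq2 hqp

/-- (2b) every element of `A` acts on `J` as an element of `A ∩ J`. -/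
theorem exists_inf_act (h : Hyp X) (hA : SC S A) (hJ : IsComponent J)
    (hAJ : ¬ A ≤ centralizer (J : Set X)) {x : X} (hx : x ∈ A) :
    ∃ b ∈ A, b ∈ J ∧ ∀ k ∈ J, x * k * x⁻¹ = b * k * b⁻¹ := by
  obtain ⟨j, hjS, hj, hj2⟩ := exists_elt h hA hJ hx
  obtain ⟨b, hbA, hb⟩ := exists_mem_inf h hA hJ hAJ (QuotientGroup.mk j) ((mem_Tq h hJ).2 hjS) hj2
  refine ⟨b, hbA, b.2, fun k hk => ?_⟩
  rw [hj k hk]
  have h1 : b⁻¹ * j ∈ center J := QuotientGroup.eq.1 hb
  rw [mem_center_iff] at h1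
  have h2 : k * ((b : X)⁻¹ * j) = (b : X)⁻¹ * j * k := congrArg Subtype.val (h1 ⟨k, hk⟩)
  calc (j : X) * k * (j : X)⁻¹ = b * ((b : X)⁻¹ * j * k) * (j : X)⁻¹ := by group
    _ = b * (k * ((b : X)⁻¹ * j)) * (j : X)⁻¹ := by rw [h2]
    _ = b * k * (b : X)⁻¹ := by group

/-- elements of `A ∩ J` commute with `S ∩ J` modulo the centre of `J`. -/
theorem commutator_central (h : Hyp X) (hA : SC S A) (hJ : IsComponent J) {b t : X} (hbA : b ∈ A)
    (hbJ : b ∈ J) (htJ : t ∈ J) (htS : t ∈ (S : Subgroup X)) :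
    ∀ k ∈ J, k * (t * b * t⁻¹ * b⁻¹) = (t * b * t⁻¹ * b⁻¹) * k := by
  obtain ⟨D, hD⟩ := exists_data h S hJ
  set b' : J := ⟨b, hbJ⟩
  set t' : J := ⟨t, htJ⟩
  have hb1 : (QuotientGroup.mk b' : J ⧸ center J) ∈ Tq S J := (mem_Tq h hJ).2 (hA.le hbA)
  have ht1 : (QuotientGroup.mk t' : J ⧸ center J) ∈ Tq S J := (mem_Tq h hJ).2 htS
  have hb2 : (QuotientGroup.mk b' : J ⧸ center J) * QuotientGroup.mk b' = 1 := by
    rw [← QuotientGroup.mk_mul]
    have : b' * b' = 1 := Subtype.ext (hA.sq b hbA)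
    rw [this, QuotientGroup.mk_one]
  have hc := (hD.sq_iff _ hb1).1 hb2 _ ht1
  have h1 : t' * b' * t'⁻¹ * b'⁻¹ ∈ center J := by
    rw [← QuotientGroup.eq_one_iff]
    simp only [QuotientGroup.mk_mul, QuotientGroup.mk_inv]
    rw [← hc]
    group
  intro k hk
  exact congrArg Subtype.val (mem_center_iff.1 h1 ⟨k, hk⟩)

/-- (2c) the data for Lemma B. -/
theorem exists_Z (h : Hyp X) (hA : SC S A) (hJ : IsComponent J)
    (hAJ : ¬ A ≤ centralizer (J : Set X)) :
    ∃ Z : Subgroup X, Z ≤ A ∧ (∀ z ∈ Z, ∀ k ∈ J, k * z = z * k) ∧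
      (∀ x ∈ A, ∀ t ∈ J, t ∈ (S : Subgroup X) → t * x * t⁻¹ * x⁻¹ ∈ Z) ∧
      (∀ x ∈ A, (∃ t ∈ J, t ∈ (S : Subgroup X) ∧ t * x ≠ x * t) → ∀ z ∈ Z,
        ∃ t ∈ J, t ∈ (S : Subgroup X) ∧ t * x * t⁻¹ = z * x) := by
  obtain ⟨D, hD⟩ := exists_data h S hJ
  -- an element b₀
  obtain ⟨x₀, hx₀, hx₀J⟩ : ∃ x ∈ A, x ∉ centralizer (J : Set X) := by
    by_contra hcon
    push Not at hcon
    exact hAJ hcon
  obtain ⟨b₀, hb₀A, hb₀J, hb₀⟩ := exists_inf_act h hA hJ hAJ hx₀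
  have hb₀c : ¬ ∀ k ∈ J, b₀ * k * b₀⁻¹ = k := by
    intro hc
    apply hx₀J
    rw [mem_centralizer_iff]
    intro k hk
    have h1 := hb₀ k hk
    rw [hc k hk] at h1
    calc k * x₀ = (x₀ * k * x₀⁻¹) * x₀ := by rw [h1]
      _ = x₀ * k := by group
  have cc : ∀ b ∈ A, b ∈ J → ∀ t ∈ J, t ∈ (S : Subgroup X) →
      ∀ k ∈ J, k * (t * b * t⁻¹ * b⁻¹) = (t * b * t⁻¹ * b⁻¹) * k :=
    fun b hb hbJ t ht htS => commutator_central h hA hJ hb hbJ ht htS
  let Z : Subgroup X :=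
    { carrier := {z | ∃ t ∈ J, t ∈ (S : Subgroup X) ∧ z = t * b₀ * t⁻¹ * b₀⁻¹}
      mul_mem' := by
        rintro _ _ ⟨t, ht, htS, rfl⟩ ⟨s, hs, hsS, rfl⟩
        refine ⟨t * s, mul_mem ht hs, mul_mem htS hsS, ?_⟩
        have h1 := cc b₀ hb₀A hb₀J s hs hsS t ht
        symm
        calc t * s * b₀ * (t * s)⁻¹ * b₀⁻¹ =
              (t * (s * b₀ * s⁻¹ * b₀⁻¹)) * b₀ * t⁻¹ * b₀⁻¹ := by group
          _ = (s * b₀ * s⁻¹ * b₀⁻¹) * (t * b₀ * t⁻¹ * b₀⁻¹) := by
              rw [h1]; simp only [mul_assoc]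
          _ = (t * b₀ * t⁻¹ * b₀⁻¹) * (s * b₀ * s⁻¹ * b₀⁻¹) := by
              apply cc b₀ hb₀A hb₀J t ht htS
              exact mul_mem (mul_mem (mul_mem hs hb₀J) (inv_mem hs)) (inv_mem hb₀J)
      one_mem' := ⟨1, one_mem _, one_mem _, by simp⟩
      inv_mem' := by
        rintro _ ⟨t, ht, htS, rfl⟩
        refine ⟨t⁻¹, inv_mem ht, inv_mem htS, ?_⟩
        have h1 := cc b₀ hb₀A hb₀J t ht htS t⁻¹ (inv_mem ht)
        have h2 : t⁻¹ * (t * b₀ * t⁻¹ * b₀⁻¹) * t = t * b₀ * t⁻¹ * b₀⁻¹ := by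
          rw [h1]; group
        have h3 : (t * b₀ * t⁻¹ * b₀⁻¹)⁻¹ = t⁻¹ * b₀ * t⁻¹⁻¹ * b₀⁻¹ := by
          rw [← h2]
          group
        exact h3 }
  have hZ : ∀ z, z ∈ Z ↔ ∃ t ∈ J, t ∈ (S : Subgroup X) ∧ z = t * b₀ * t⁻¹ * b₀⁻¹ := fun z => Iff.rfl
  -- independence of `b₀`
  have hind : ∀ b ∈ A, b ∈ J → (¬ ∀ k ∈ J, b * k * b⁻¹ = k) →
      ∃ e : X, e ∈ J ∧ (∀ t : X, t ∈ J → t ∈ (S : Subgroup X) → (e * t * e⁻¹ ∈ (S : Subgroup X) ∧
        (e * t * e⁻¹) * b * (e * t * e⁻¹)⁻¹ * b⁻¹ = t * b₀ * t⁻¹ * b₀⁻¹)) ∧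
        (∀ t : X, t ∈ J → t ∈ (S : Subgroup X) → e⁻¹ * t * e ∈ (S : Subgroup X)) := by
    intro b hb hbJ hbc
    have hne : ∀ c ∈ A, ∀ hcJ : c ∈ J, (¬ ∀ k ∈ J, c * k * c⁻¹ = k) →
        (QuotientGroup.mk (⟨c, hcJ⟩ : J) : J ⧸ center J) ≠ 1 := by
      intro c hc hcJ hcc hh
      apply hcc
      intro k hk
      rw [QuotientGroup.eq_one_iff, mem_center_iff] at hh
      have h2 : k * c = c * k := congrArg Subtype.val (hh ⟨k, hk⟩)
      rw [← h2]; group
    have hsqq : ∀ c ∈ A, ∀ hcJ : c ∈ J, (QuotientGroup.mk (⟨c, hcJ⟩ : J) : J ⧸ center J) *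
        QuotientGroup.mk (⟨c, hcJ⟩ : J) = 1 := by
      intro c hc hcJ
      rw [← QuotientGroup.mk_mul]
      have : (⟨c, hcJ⟩ : J) * ⟨c, hcJ⟩ = 1 := Subtype.ext (hA.sq c hc)
      rw [this, QuotientGroup.mk_one]
    obtain ⟨d, hdD, hd⟩ := hD.trans _ ((mem_Tq h hJ).2 (hA.le hb₀A)) _
      ((mem_Tq h hJ).2 (hA.le hb)) (hne b₀ hb₀A hb₀J hb₀c) (hne b hb hbJ hbc)
      (hsqq b₀ hb₀A hb₀J) (hsqq b hb hbJ)
    obtain ⟨e, rfl⟩ := QuotientGroup.mk_surjective d
    have hnorm : ∀ t : J, (t : X) ∈ (S : Subgroup X) →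
        ((e * t * e⁻¹ : J) : X) ∈ (S : Subgroup X) ∧ ((e⁻¹ * t * e : J) : X) ∈ (S : Subgroup X) := by
      intro t ht
      have h1 := Subgroup.mem_normalizer_iff.1 (hD.D_le hdD) (QuotientGroup.mk t)
      have h2 := Subgroup.mem_normalizer_iff.1 (inv_mem (hD.D_le hdD)) (QuotientGroup.mk t)
      have h3 : (QuotientGroup.mk t : J ⧸ center J) ∈ Tq S J := (mem_Tq h hJ).2 ht
      constructor
      · rw [← mem_Tq h hJ]
        exact h1.1 h3
      · rw [← mem_Tq h hJ]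
        have h4 := h2.1 h3
        rw [inv_inv] at h4
        exact h4
    refine ⟨e, e.2, ?_, ?_⟩
    · intro t ht htS
      refine ⟨(hnorm ⟨t, ht⟩ htS).1, ?_⟩
      -- b = e b₀ e⁻¹ ζ
      have h4 : (e * ⟨b₀, hb₀J⟩ * e⁻¹)⁻¹ * ⟨b, hbJ⟩ ∈ center J := QuotientGroup.eq.1 hd
      obtain ⟨ζ, hζ⟩ : ∃ ζ : J, ζ = (e * ⟨b₀, hb₀J⟩ * e⁻¹)⁻¹ * ⟨b, hbJ⟩ := ⟨_, rfl⟩
      rw [← hζ, mem_center_iff] at h4
      have hbe : b = (e : X) * b₀ * (e : X)⁻¹ * ζ := by
        rw [hζ]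
        simp only [Subgroup.coe_mul, Subgroup.coe_inv]
        group
      have hζc : ∀ k ∈ J, k * (ζ : X) = ζ * k := fun k hk => congrArg Subtype.val (h4 ⟨k, hk⟩)
      set w := (e : X) * t * (e : X)⁻¹ with hw
      have hwJ : w ∈ J := mul_mem (mul_mem e.2 ht) (inv_mem e.2)
      have hwζ : (ζ : X) * w⁻¹ = w⁻¹ * ζ := (hζc _ (inv_mem hwJ)).symm
      calc w * b * w⁻¹ * b⁻¹ = w * ((e : X) * b₀ * (e : X)⁻¹ * ζ) * w⁻¹ *
            ((e : X) * b₀ * (e : X)⁻¹ * ζ)⁻¹ := by rw [← hbe]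
        _ = w * ((e : X) * b₀ * (e : X)⁻¹) * (ζ * w⁻¹) * (ζ : X)⁻¹ *
            ((e : X) * b₀ * (e : X)⁻¹)⁻¹ := by simp only [mul_assoc, mul_inv_rev]
        _ = w * ((e : X) * b₀ * (e : X)⁻¹) * (w⁻¹ * ζ) * (ζ : X)⁻¹ *
            ((e : X) * b₀ * (e : X)⁻¹)⁻¹ := by rw [hwζ]
        _ = e * (t * b₀ * t⁻¹ * b₀⁻¹) * (e : X)⁻¹ := by rw [hw]; group
        _ = t * b₀ * t⁻¹ * b₀⁻¹ := by
            rw [cc b₀ hb₀A hb₀J t ht htS e e.2]; group
    · intro t ht htS
      exact (hnorm ⟨t, ht⟩ htS).2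
  refine ⟨Z, ?_, ?_, ?_, ?_⟩
  · rintro _ ⟨t, ht, htS, rfl⟩
    exact mul_mem (hA.conj_mem hb₀A htS) (inv_mem hb₀A)
  · rintro _ ⟨t, ht, htS, rfl⟩ k hk
    exact cc b₀ hb₀A hb₀J t ht htS k hk
  · intro x hx t ht htS
    obtain ⟨b, hbA, hbJ, hb⟩ := exists_inf_act h hA hJ hAJ hx
    have e1 : t * x * t⁻¹ * x⁻¹ = t * b * t⁻¹ * b⁻¹ := by
      have h1 := hb t⁻¹ (inv_mem ht)
      calc t * x * t⁻¹ * x⁻¹ = t * (x * t⁻¹ * x⁻¹) := by simp only [mul_assoc]
        _ = t * (b * t⁻¹ * b⁻¹) := by rw [h1]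
        _ = t * b * t⁻¹ * b⁻¹ := by simp only [mul_assoc]
    rw [e1]
    by_cases hbc : ∀ k ∈ J, b * k * b⁻¹ = k
    · have h1 := hbc t⁻¹ (inv_mem ht)
      have : t * b * t⁻¹ * b⁻¹ = 1 := by
        calc t * b * t⁻¹ * b⁻¹ = t * (b * t⁻¹ * b⁻¹) := by simp only [mul_assoc]
          _ = 1 := by rw [h1, mul_inv_cancel]
      rw [this]
      exact one_mem Z
    · obtain ⟨e, he, h1, h2⟩ := hind b hbA hbJ hbc
      have h3 := (h1 (e⁻¹ * t * e) (mul_mem (mul_mem (inv_mem he) ht) he) (h2 t ht htS)).2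
      have h4 : e * (e⁻¹ * t * e) * e⁻¹ = t := by group
      rw [h4] at h3
      rw [h3]
      exact ⟨_, mul_mem (mul_mem (inv_mem he) ht) he, h2 t ht htS, rfl⟩
  · rintro x hx ⟨t₁, ht₁, ht₁S, hne⟩ _ ⟨t, ht, htS, rfl⟩
    obtain ⟨b, hbA, hbJ, hb⟩ := exists_inf_act h hA hJ hAJ hx
    have e1 : ∀ t ∈ J, t * x * t⁻¹ * x⁻¹ = t * b * t⁻¹ * b⁻¹ := by
      intro t ht
      have h1 := hb t⁻¹ (inv_mem ht)
      calc t * x * t⁻¹ * x⁻¹ = t * (x * t⁻¹ * x⁻¹) := by simp only [mul_assoc]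
        _ = t * (b * t⁻¹ * b⁻¹) := by rw [h1]
        _ = t * b * t⁻¹ * b⁻¹ := by simp only [mul_assoc]
    have hbc : ¬ ∀ k ∈ J, b * k * b⁻¹ = k := by
      intro hc
      apply hne
      have h1 := hb t₁ ht₁
      rw [hc t₁ ht₁] at h1
      calc t₁ * x = (x * t₁ * x⁻¹) * x := by rw [h1]
        _ = x * t₁ := by group
    obtain ⟨e, he, h1, h2⟩ := hind b hbA hbJ hbc
    obtain ⟨h3, h4⟩ := h1 t ht htS
    have heJ : e * t * e⁻¹ ∈ J := mul_mem (mul_mem he ht) (inv_mem he)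
    refine ⟨e * t * e⁻¹, heJ, h3, ?_⟩
    rw [← h4, ← e1 _ heJ]
    group

end Cfsg.Agent.ThreePrime.AComp
end

-- part: ThreePrime/CenterTrivial
section
/-!
# Components not centralised by `A` are simple
-/

set_option autoImplicit false

namespace Cfsg.Agent.ThreePrime.CenterTrivial

open Subgroup
open scoped commutatorElement
open Cfsg
open Cfsg.Agent.ThreePrime.SzData
open Cfsg.Agent.ThreePrime.AutQuot
open Cfsg.Agent.ThreePrime.Comp
open Cfsg.Agent.ThreePrime.AComp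
open Cfsg.Agent.SignalizersComponents.CompBasic
open Cfsg.Agent.SignalizersComponents.Components

universe u

/-- In a perfect group the central elements of a Sylow subgroup lie in its commutator subgroup. -/
theorem mem_commutator_of_center {J : Type u} [Group J] [Finite J] (hJ : Group.IsPerfect J) {p : ℕ}
    [Fact p.Prime] (Q : Sylow p J) {z : J} (hz : z ∈ center J) (hzQ : z ∈ (Q : Subgroup J)) :
    z ∈ ⁅(Q : Subgroup J), (Q : Subgroup J)⁆ := by
  set φ : (Q : Subgroup J) →* Abelianization (Q : Subgroup J) := Abelianization.of with hφ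
  have hzc := mem_center_iff.1 hz
  have key : ∀ (k : ℕ) (g₀ : J), g₀⁻¹ * z ^ k * g₀ ∈ (Q : Subgroup J) → g₀⁻¹ * z ^ k * g₀ = z ^ k := by
    intro k g₀ _
    have h1 := mem_center_iff.1 (pow_mem hz k) g₀
    rw [mul_assoc, ← h1, ← mul_assoc, inv_mul_cancel, one_mul]
  have h1 := MonoidHom.transfer_eq_pow φ z key
  have h2 : MonoidHom.transfer φ z = 1 := hom_eq_one_of_perfect hJ _ z
  rw [h2] at h1
  set n := (Q : Subgroup J).index with hn
  have h3 : (⟨z ^ n, MonoidHom.transfer_eq_pow_aux z key⟩ : (Q : Subgroup J)) ∈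
      commutator (Q : Subgroup J) := by
    rw [← Abelianization.ker_of, MonoidHom.mem_ker]
    exact h1.symm
  have h4 : z ^ n ∈ ⁅(Q : Subgroup J), (Q : Subgroup J)⁆ := by
    rw [← Subgroup.map_subtype_commutator]
    exact ⟨_, h3, rfl⟩
  -- `z` is a power of `z ^ n`
  obtain ⟨m, hm⟩ := Q.isPGroup' ⟨z, hzQ⟩
  have hzm : z ^ p ^ m = 1 := congrArg Subtype.val hm
  have hcop : Nat.Coprime n (orderOf z) := by
    apply Nat.Coprime.coprime_dvd_right (orderOf_dvd_of_pow_eq_one hzm)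
    apply Nat.Coprime.pow_right
    rw [Nat.coprime_comm, Nat.Prime.coprime_iff_not_dvd Fact.out]
    exact Q.not_dvd_index
  obtain ⟨l, hl⟩ := exists_pow_eq_self_of_coprime hcop
  rw [← hl]
  exact pow_mem h4 l

variable {X : Type u} [Group X] [Finite X] {S : Sylow 2 X} {A J : Subgroup X}

/-- A component not centralised by `A`, whose Sylow 2-subgroup `S ∩ J` centralises `A`, has trivial
centre. -/
theorem center_eq_bot (h : Hyp X) (hA : SC S A) (hJ : IsComponent J)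
    (hAJ : ¬ A ≤ centralizer (J : Set X))
    (hT : ∀ t ∈ J, t ∈ (S : Subgroup X) → ∀ x ∈ A, t * x = x * t) : center J = ⊥ := by
  classical
  obtain ⟨D, hD⟩ := exists_data h S hJ
  obtain ⟨Q, hQ⟩ := Cfsg.Agent.S0542.result 2 J hJ.1 S
  have hmemQ : ∀ y : J, y ∈ (Q : Subgroup J) ↔ (y : X) ∈ (S : Subgroup X) := by
    intro y
    rw [hQ, mem_subgroupOf]
  have hmemT : ∀ y : J, (QuotientGroup.mk y : J ⧸ center J) ∈ Tq S J ↔ y ∈ (Q : Subgroup J) := by
    intro y
    rw [hmemQ, mem_Tq h hJ]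
  set Zt : Subgroup (J ⧸ center J) := Tq S J ⊓ centralizer (Tq S J : Set (J ⧸ center J)) with hZt
  let E : Subgroup J := Zt.comap (QuotientGroup.mk' (center J))
  have hE : ∀ e : J, e ∈ E ↔ (QuotientGroup.mk e : J ⧸ center J) ∈ Zt := fun e => Iff.rfl
  have hEQ : ∀ e ∈ E, e ∈ (Q : Subgroup J) := fun e he => (hmemT e).1 ((hE e).1 he).1
  have hZsq : ∀ q ∈ Zt, q * q = 1 := by
    intro q hq
    exact (hD.sq_iff q hq.1).2 (fun y hy => (mem_centralizer_iff.1 hq.2 y hy).symm)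
  have hEc : ∀ e ∈ E, ∀ t ∈ (Q : Subgroup J), e * t = t * e := by
    intro e he t ht
    obtain ⟨b, hb, hbe⟩ := exists_mem_inf h hA hJ hAJ (QuotientGroup.mk e) ((hE e).1 he).1
      (hZsq _ ((hE e).1 he))
    have h1 : b⁻¹ * e ∈ center J := QuotientGroup.eq.1 hbe
    have h2 := mem_center_iff.1 h1 t
    have h3 : t * b = b * t := Subtype.ext (hT t t.2 ((hmemQ t).1 ht) b hb)
    calc e * t = b * ((b⁻¹ * e) * t) := by group
      _ = b * (t * (b⁻¹ * e)) := by rw [h2]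
      _ = (b * t) * (b⁻¹ * e) := by group
      _ = (t * b) * (b⁻¹ * e) := by rw [h3]
      _ = t * e := by group
  have hcZ : ∀ z ∈ center J, z ∈ E := by
    intro z hz
    rw [hE, (QuotientGroup.eq_one_iff z).2 hz]
    exact one_mem _
  have hcomm : ∀ x ∈ (Q : Subgroup J), ∀ y ∈ (Q : Subgroup J), ⁅x, y⁆ ∈ E := by
    intro x hx y hy
    rw [hE]
    have h1 : (QuotientGroup.mk ⁅x, y⁆ : J ⧸ center J) =
        ⁅(QuotientGroup.mk x : J ⧸ center J), QuotientGroup.mk y⁆ := rfl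
    rw [h1, hZt, ← hD.comm_eq]
    exact commutator_mem_commutator ((hmemT x).2 hx) ((hmemT y).2 hy)
  letI : CommGroup E := { (inferInstance : Group E) with
    mul_comm := fun a b => Subtype.ext (hEc a a.2 b (hEQ b b.2)) }
  -- central differences
  have hdiff : ∀ g g' : J, (QuotientGroup.mk g : J ⧸ center J) = QuotientGroup.mk g' → ∀ e : J,
      g * e * g⁻¹ = g' * e * g'⁻¹ := by
    intro g g' hg e
    have h1 : g⁻¹ * g' ∈ center J := QuotientGroup.eq.1 hg
    have h2 := mem_center_iff.1 h1 e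
    calc g * e * g⁻¹ = g * (e * (g⁻¹ * g')) * g'⁻¹ := by group
      _ = g * ((g⁻¹ * g') * e) * g'⁻¹ := by rw [h2]
      _ = g' * e * g'⁻¹ := by group
  have hdiffc : ∀ g g' : J, (QuotientGroup.mk g : J ⧸ center J) = QuotientGroup.mk g' → ∀ w : J,
      ⁅g, w⁆ = ⁅g', w⁆ ∧ ⁅w, g⁆ = ⁅w, g'⁆ := by
    intro g g' hg w
    constructor
    · rw [commutatorElement_def, commutatorElement_def, hdiff g g' hg w]
    · have h1 := hdiff g g' hg w⁻¹
      rw [commutatorElement_def, commutatorElement_def]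
      calc w * g * w⁻¹ * g⁻¹ = w * (g * w⁻¹ * g⁻¹) := by group
        _ = w * (g' * w⁻¹ * g'⁻¹) := by rw [h1]
        _ = w * g' * w⁻¹ * g'⁻¹ := by group
  have hmk : ∀ q : J ⧸ center J, (QuotientGroup.mk (Quotient.out q) : J ⧸ center J) = q :=
    fun q => QuotientGroup.out_eq' q
  have hact : ∀ g : J, (QuotientGroup.mk g : J ⧸ center J) ∈ normalizer (Tq S J : Set (J ⧸ center J)) →
      ∀ e ∈ E, g * e * g⁻¹ ∈ E := by
    intro g hg e he
    rw [hE] at he ⊢
    rw [QuotientGroup.mk_mul, QuotientGroup.mk_mul, QuotientGroup.mk_inv]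
    refine ⟨(Subgroup.mem_normalizer_iff.1 hg _).1 he.1, ?_⟩
    refine mem_centralizer_iff.2 ?_
    intro t ht
    have h1 : (QuotientGroup.mk g : J ⧸ center J)⁻¹ * t * QuotientGroup.mk g ∈ Tq S J := by
      have h2 := (Subgroup.mem_normalizer_iff.1 (inv_mem hg) t).1 ht
      rwa [inv_inv] at h2
    have h3 := mem_centralizer_iff.1 he.2 _ h1
    set γ := (QuotientGroup.mk g : J ⧸ center J)
    set ε := (QuotientGroup.mk e : J ⧸ center J)
    calc t * (γ * ε * γ⁻¹) = γ * ((γ⁻¹ * t * γ) * ε) * γ⁻¹ := by group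
      _ = γ * (ε * (γ⁻¹ * t * γ)) * γ⁻¹ := by rw [h3]
      _ = γ * ε * γ⁻¹ * t := by group
  have hDn : ∀ d : D, (QuotientGroup.mk (Quotient.out (d : J ⧸ center J)) : J ⧸ center J) ∈
      normalizer (Tq S J : Set (J ⧸ center J)) := by
    intro d
    rw [hmk]
    exact hD.D_le d.2
  -- the norm
  have : Fintype D := Fintype.ofFinite D
  let N : E →* E :=
    { toFun := fun e => ∏ d : D, (⟨Quotient.out (d : J ⧸ center J) * e *
        (Quotient.out (d : J ⧸ center J))⁻¹, hact _ (hDn d) e e.2⟩ : E)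
      map_one' := by
        apply Finset.prod_eq_one
        intro d _
        apply Subtype.ext
        simp
      map_mul' := by
        intro a b
        rw [← Finset.prod_mul_distrib]
        apply Finset.prod_congr rfl
        intro d _
        apply Subtype.ext
        simp [mul_assoc] }
  have hN : ∀ e : E, N e = ∏ d : D, (⟨Quotient.out (d : J ⧸ center J) * e *
        (Quotient.out (d : J ⧸ center J))⁻¹, hact _ (hDn d) e e.2⟩ : E) := fun e => rfl
  have hNinv : ∀ (d : D) (e : E), N ⟨Quotient.out (d : J ⧸ center J) * e *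
        (Quotient.out (d : J ⧸ center J))⁻¹, hact _ (hDn d) e e.2⟩ = N e := by
    intro d e
    rw [hN, hN]
    refine Fintype.prod_equiv (Equiv.mulRight d) _ _ ?_
    intro d'
    apply Subtype.ext
    change Quotient.out (d' : J ⧸ center J) * (Quotient.out (d : J ⧸ center J) * e *
      (Quotient.out (d : J ⧸ center J))⁻¹) * (Quotient.out (d' : J ⧸ center J))⁻¹ = _
    have h1 := hdiff (Quotient.out (d' : J ⧸ center J) * Quotient.out (d : J ⧸ center J))
      (Quotient.out ((d' * d : D) : J ⧸ center J)) (by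
        rw [QuotientGroup.mk_mul, hmk, hmk, hmk]; rfl) e
    change _ = Quotient.out ((d' * d : D) : J ⧸ center J) * (e : J) *
      (Quotient.out ((d' * d : D) : J ⧸ center J))⁻¹
    rw [← h1]
    group
  have hNz : ∀ z : E, (z : J) ∈ center J → N z = z ^ Fintype.card D := by
    intro z hz
    rw [hN, Fintype.card, ← Finset.prod_const]
    apply Finset.prod_congr rfl
    intro d _
    apply Subtype.ext
    have h1 := mem_center_iff.1 hz (Quotient.out (d : J ⧸ center J))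
    change Quotient.out (d : J ⧸ center J) * (z : J) * (Quotient.out (d : J ⧸ center J))⁻¹ = z
    rw [h1]; group
  -- the form
  have houtQ : ∀ q ∈ Tq S J, Quotient.out q ∈ (Q : Subgroup J) := by
    intro q hq
    rw [← hmemT, hmk]
    exact hq
  let f : (J ⧸ center J) → (J ⧸ center J) → E := fun a b =>
    if hab : a ∈ Tq S J ∧ b ∈ Tq S J then
      N ⟨⁅Quotient.out a, Quotient.out b⁆, hcomm _ (houtQ a hab.1) _ (houtQ b hab.2)⟩ else 1
  have hf : ∀ a b (ha : a ∈ Tq S J) (hb : b ∈ Tq S J), f a b =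
      N ⟨⁅Quotient.out a, Quotient.out b⁆, hcomm _ (houtQ a ha) _ (houtQ b hb)⟩ := by
    intro a b ha hb
    simp only [f]
    rw [dif_pos ⟨ha, hb⟩]
  have hmulc : ∀ u ∈ (Q : Subgroup J), ∀ v ∈ (Q : Subgroup J), ∀ w ∈ (Q : Subgroup J),
      ⁅u * v, w⁆ = ⁅u, w⁆ * ⁅v, w⁆ := by
    intro u hu v hv w hw
    have h1 := hEc _ (hcomm v hv w hw) u hu
    have h2 := hEc _ (hcomm v hv w hw) _ (hEQ _ (hcomm u hu w hw))
    rw [← h2]
    calc ⁅u * v, w⁆ = (u * ⁅v, w⁆) * (w * u⁻¹ * w⁻¹) := by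
          simp only [commutatorElement_def, mul_inv_rev]; group
      _ = (⁅v, w⁆ * u) * (w * u⁻¹ * w⁻¹) := by rw [h1]
      _ = ⁅v, w⁆ * ⁅u, w⁆ := by simp only [commutatorElement_def]; group
  have hmulc' : ∀ u ∈ (Q : Subgroup J), ∀ v ∈ (Q : Subgroup J), ∀ w ∈ (Q : Subgroup J),
      ⁅w, u * v⁆ = ⁅w, u⁆ * ⁅w, v⁆ := by
    intro u hu v hv w hw
    have h1 := hmulc u hu v hv w hw
    have h2 := hEc _ (hcomm w hw u hu) _ (hEQ _ (hcomm w hw v hv))
    rw [h2, ← commutatorElement_inv, h1, mul_inv_rev, commutatorElement_inv, commutatorElement_inv]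
  have hall := hD.noform E f ?_ ?_ ?_ ?_ ?_
  · -- conclusion
    have hker : ⁅(Q : Subgroup J), (Q : Subgroup J)⁆ ≤ N.ker.map E.subtype := by
      rw [commutator_le]
      intro x hx y hy
      refine ⟨⟨⁅x, y⁆, hcomm x hx y hy⟩, ?_, rfl⟩
      rw [SetLike.mem_coe, MonoidHom.mem_ker]
      have h1 := hall _ ((hmemT x).2 hx) _ ((hmemT y).2 hy)
      rw [hf _ _ ((hmemT x).2 hx) ((hmemT y).2 hy)] at h1
      rw [← h1]
      congr 1
      apply Subtype.ext
      change ⁅x, y⁆ = ⁅Quotient.out (QuotientGroup.mk x : J ⧸ center J),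
        Quotient.out (QuotientGroup.mk y : J ⧸ center J)⁆
      rw [(hdiffc x (Quotient.out (QuotientGroup.mk x : J ⧸ center J)) (hmk _).symm y).1,
        (hdiffc y (Quotient.out (QuotientGroup.mk y : J ⧸ center J)) (hmk _).symm _).2]
    rw [eq_bot_iff]
    intro z hz
    rw [mem_bot]
    have hzQ : z ∈ (Q : Subgroup J) := hEQ z (hcZ z hz)
    obtain ⟨w, hw, hwz⟩ := hker (mem_commutator_of_center hJ.2.1 Q hz hzQ)
    rw [SetLike.mem_coe, MonoidHom.mem_ker, hNz w (by rw [← hwz] at hz; exact hz)] at hw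
    have h1 : z ^ Fintype.card D = 1 := by
      rw [← hwz]
      exact congrArg Subtype.val hw
    have hodd : Odd (Fintype.card D) := by
      rw [← Nat.card_eq_fintype_card]
      exact hD.odd
    obtain ⟨m, hm⟩ := center_two h hJ ⟨z, hz⟩
    have h2 : z ^ 2 ^ m = 1 := congrArg Subtype.val hm
    have h3 : orderOf z ∣ Nat.gcd (Fintype.card D) (2 ^ m) :=
      Nat.dvd_gcd (orderOf_dvd_of_pow_eq_one h1) (orderOf_dvd_of_pow_eq_one h2)
    have h4 : Nat.gcd (Fintype.card D) (2 ^ m) = 1 :=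
      Nat.Coprime.pow_right m (Nat.coprime_two_right.2 hodd)
    rw [h4, Nat.dvd_one, orderOf_eq_one_iff] at h3
    exact h3
  · intro x hx y hy z hz
    rw [hf _ _ (mul_mem hx hy) hz, hf _ _ hx hz, hf _ _ hy hz, ← map_mul]
    congr 1
    apply Subtype.ext
    change ⁅Quotient.out (x * y), Quotient.out z⁆ =
      ⁅Quotient.out x, Quotient.out z⁆ * ⁅Quotient.out y, Quotient.out z⁆
    rw [(hdiffc (Quotient.out (x * y)) (Quotient.out x * Quotient.out y) (by
      rw [QuotientGroup.mk_mul, hmk, hmk, hmk]) (Quotient.out z)).1]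
    exact hmulc _ (houtQ x hx) _ (houtQ y hy) _ (houtQ z hz)
  · intro x hx y hy z hz
    rw [hf _ _ hx (mul_mem hy hz), hf _ _ hx hy, hf _ _ hx hz, ← map_mul]
    congr 1
    apply Subtype.ext
    change ⁅Quotient.out x, Quotient.out (y * z)⁆ =
      ⁅Quotient.out x, Quotient.out y⁆ * ⁅Quotient.out x, Quotient.out z⁆
    rw [(hdiffc (Quotient.out (y * z)) (Quotient.out y * Quotient.out z) (by
      rw [QuotientGroup.mk_mul, hmk, hmk, hmk]) (Quotient.out x)).2]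
    exact hmulc' _ (houtQ y hy) _ (houtQ z hz) _ (houtQ x hx)
  · intro d hd x hx y hy
    have hdn := hD.D_le hd
    have hx' := (Subgroup.mem_normalizer_iff.1 hdn x).1 hx
    have hy' := (Subgroup.mem_normalizer_iff.1 hdn y).1 hy
    rw [hf _ _ hx' hy', hf _ _ hx hy,
      ← hNinv ⟨d, hd⟩ ⟨⁅Quotient.out x, Quotient.out y⁆, hcomm _ (houtQ x hx) _ (houtQ y hy)⟩]
    congr 1
    apply Subtype.ext
    change ⁅Quotient.out (d * x * d⁻¹), Quotient.out (d * y * d⁻¹)⁆ =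
      Quotient.out d * ⁅Quotient.out x, Quotient.out y⁆ * (Quotient.out d)⁻¹
    rw [(hdiffc (Quotient.out (d * x * d⁻¹)) (Quotient.out d * Quotient.out x * (Quotient.out d)⁻¹) (by
      rw [QuotientGroup.mk_mul, QuotientGroup.mk_mul, QuotientGroup.mk_inv, hmk, hmk, hmk])
      (Quotient.out (d * y * d⁻¹))).1,
      (hdiffc (Quotient.out (d * y * d⁻¹)) (Quotient.out d * Quotient.out y * (Quotient.out d)⁻¹) (by
      rw [QuotientGroup.mk_mul, QuotientGroup.mk_mul, QuotientGroup.mk_inv, hmk, hmk, hmk]) _).2]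
    simp only [commutatorElement_def]
    group
  · intro x hx hx2 y hy
    rw [hf _ _ hx hy]
    have h1 : Quotient.out x ∈ E := by
      rw [hE, hmk]
      refine ⟨hx, ?_⟩
      refine mem_centralizer_iff.2 ?_
      intro t ht
      exact ((hD.sq_iff x hx).1 hx2 t ht).symm
    have h2 : (⟨⁅Quotient.out x, Quotient.out y⁆, hcomm _ (houtQ x hx) _ (houtQ y hy)⟩ : E) = 1 := by
      apply Subtype.ext
      change ⁅Quotient.out x, Quotient.out y⁆ = 1
      rw [commutatorElement_eq_one_iff_mul_comm]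
      exact hEc _ h1 _ (houtQ y hy)
    rw [h2, map_one]
  · intro x hx hx2 y hy
    rw [hf _ _ hy hx]
    have h1 : Quotient.out x ∈ E := by
      rw [hE, hmk]
      refine ⟨hx, ?_⟩
      refine mem_centralizer_iff.2 ?_
      intro t ht
      exact ((hD.sq_iff x hx).1 hx2 t ht).symm
    have h2 : (⟨⁅Quotient.out y, Quotient.out x⁆, hcomm _ (houtQ y hy) _ (houtQ x hx)⟩ : E) = 1 := by
      apply Subtype.ext
      change ⁅Quotient.out y, Quotient.out x⁆ = 1
      rw [commutatorElement_eq_one_iff_mul_comm]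
      exact (hEc _ h1 _ (houtQ y hy)).symm
    rw [h2, map_one]

end Cfsg.Agent.ThreePrime.CenterTrivial
end
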