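import Mathlib
import Cfsg.Agent.Transfer.ThompsonTransfer
set_option linter.all false

/-!
# A transfer lemma: elements of least order outside a maximal subgroup of a Sylow 2-subgroup
-/

set_option autoImplicit false

namespace Cfsg.Agent.ThreePrime.Transfer

open Subgroup MulAction

/-- The sign character of a subgroup of index two. -/
noncomputable def signHom {H : Type*} [Group H] (N : Subgroup H) (hN : N.index = 2) : H →* ℤˣ := by
  classical
  exact
  { toFun := fun x => if x ∈ N then 1 else -1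
    map_one' := if_pos (one_mem N)
    map_mul' := by
      intro a b
      have h := Subgroup.mul_mem_iff_of_index_two hN (a := a) (b := b)
      by_cases ha : a ∈ N <;> by_cases hb : b ∈ N <;> simp [h, ha, hb] }

theorem signHom_of_mem {H : Type*} [Group H] {N : Subgroup H} (hN : N.index = 2) {x : H}
    (hx : x ∈ N) : signHom N hN x = 1 := if_pos hx

theorem signHom_of_not_mem {H : Type*} [Group H] {N : Subgroup H} (hN : N.index = 2) {x : H}
    (hx : x ∉ N) : signHom N hN x = -1 := if_neg hx

variable {G : Type*} [Group G]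

theorem hom_eq_one (hG : ∀ N : Subgroup G, N.index ≠ 2) (f : G →* ℤˣ) (x : G) : f x = 1 := by
  rcases Int.units_eq_one_or (f x) with h | h
  · exact h
  · obtain ⟨M, -, hM, -⟩ := Cfsg.Agent.Transfer.ThompsonTransfer.exists_normal_index_two f x h
    exact absurd hM (hG M)

theorem zpow_smul_eq_iff_of_fixed {α : Type*} [MulAction G α] {s : G} {x : α} (h : s • x = x)
    (k : ℤ) : s ^ k • x = x := by
  have h1 : s ∈ stabilizer G x := h
  exact zpow_mem h1 k

theorem exists_conj {G : Type*} [Group G] [Finite G] (S : Sylow 2 G) {S₀ : Subgroup G}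
    (h₀ : S₀ ≤ (S : Subgroup G)) (hidx : S₀.relIndex (S : Subgroup G) = 2)
    (hG : ∀ N : Subgroup G, N.index ≠ 2) {s : G} (hs : s ∈ (S : Subgroup G)) (hs₀ : s ∉ S₀)
    (hmin : ∀ t ∈ (S : Subgroup G), t ∉ S₀ → orderOf s ≤ orderOf t) :
    ∃ g : G, g * s * g⁻¹ ∈ S₀ ∧ ∀ c ∈ (S : Subgroup G), c * s = s * c →
      g * c * g⁻¹ ∈ (S : Subgroup G) := by
  classical
  have hp : Fact (Nat.Prime 2) := ⟨Nat.prime_two⟩
  have hft : Fintype (G ⧸ (S : Subgroup G)) := Fintype.ofFinite _
  have hN : (S₀.subgroupOf (S : Subgroup G)).index = 2 := hidx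
  have hNn : (S₀.subgroupOf (S : Subgroup G)).Normal := Subgroup.normal_of_index_eq_two hN
  have hconj : ∀ t ∈ (S : Subgroup G), ∀ x ∈ S₀, t⁻¹ * x * t ∈ S₀ := by
    intro t ht x hx
    have := hNn.conj_mem ⟨x, h₀ hx⟩ (mem_subgroupOf.2 hx) (⟨t, ht⟩⁻¹)
    simpa [mem_subgroupOf] using this
  -- membership does not depend on the representative
  have hrep : ∀ (H : Subgroup G), (∀ t ∈ (S : Subgroup G), ∀ x ∈ H, t⁻¹ * x * t ∈ H) →
      ∀ (g g' : G), (g : G ⧸ (S : Subgroup G)) = g' → g⁻¹ * s * g ∈ H → g'⁻¹ * s * g' ∈ H := by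
    intro H hH g g' hgg' hg
    have h1 : g⁻¹ * g' ∈ (S : Subgroup G) := QuotientGroup.eq.1 hgg'
    have h2 := hH _ h1 _ hg
    have h3 : (g⁻¹ * g')⁻¹ * (g⁻¹ * s * g) * (g⁻¹ * g') = g'⁻¹ * s * g' := by group
    rwa [h3] at h2
  have hrep₀ := hrep S₀ hconj
  have hrepS := hrep (S : Subgroup G) (fun t ht x hx => mul_mem (mul_mem (inv_mem ht) hx) ht)
  have hout : ∀ g : G, (((g : G ⧸ (S : Subgroup G)).out : G) : G ⧸ (S : Subgroup G)) = g :=
    fun g => QuotientGroup.out_eq' _
  -- fixed points
  have hfix : ∀ g : G, s • (g : G ⧸ (S : Subgroup G)) = g ↔ g⁻¹ * s * g ∈ (S : Subgroup G) := by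
    intro g
    change ((s * g : G) : G ⧸ (S : Subgroup G)) = g ↔ _
    rw [eq_comm, QuotientGroup.eq, mul_assoc]
  let F : Finset (G ⧸ (S : Subgroup G)) := Finset.univ.filter (fun x => s • x = x)
  let F₀ : Finset (G ⧸ (S : Subgroup G)) :=
    Finset.univ.filter (fun x => x.out⁻¹ * s * x.out ∈ S₀)
  let F₁ : Finset (G ⧸ (S : Subgroup G)) :=
    Finset.univ.filter (fun x => s • x = x ∧ x.out⁻¹ * s * x.out ∉ S₀)
  have hF₀ : ∀ x, x ∈ F₀ ↔ x.out⁻¹ * s * x.out ∈ S₀ := by
    intro x
    simp [F₀]
  have hF₁ : ∀ x, x ∈ F₁ ↔ s • x = x ∧ x.out⁻¹ * s * x.out ∉ S₀ := by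
    intro x
    simp [F₁]
  have hfix' : ∀ x : G ⧸ (S : Subgroup G), s • x = x ↔ x.out⁻¹ * s * x.out ∈ (S : Subgroup G) := by
    intro x
    rw [← hfix, QuotientGroup.out_eq']
  have hFcard : F.card = F₀.card + F₁.card := by
    rw [← Finset.card_union_of_disjoint]
    · congr 1
      ext x
      simp only [F, F₀, F₁, Finset.mem_union, Finset.mem_filter, Finset.mem_univ, true_and]
      constructor
      · intro h
        by_cases h2 : x.out⁻¹ * s * x.out ∈ S₀
        · exact Or.inl h2
        · exact Or.inr ⟨h, h2⟩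
      · rintro (h | h)
        · exact (hfix' x).2 (h₀ h)
        · exact h.1
    · rw [Finset.disjoint_left]
      intro x hx hx'
      exact ((hF₁ x).1 hx').2 ((hF₀ x).1 hx)
  -- the number of fixed points is odd
  have hFodd : Odd F.card := by
    have hP : IsPGroup 2 (zpowers s) := S.isPGroup'.to_le (by rwa [zpowers_le])
    have h1 := hP.card_modEq_card_fixedPoints (G ⧸ (S : Subgroup G))
    have h2 : Nat.card (fixedPoints (zpowers s) (G ⧸ (S : Subgroup G))) = F.card := by
      apply Nat.subtype_card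
      intro x
      simp only [F, Finset.mem_filter, Finset.mem_univ, true_and]
      rw [mem_fixedPoints]
      constructor
      · intro h
        rintro ⟨_, k, rfl⟩
        exact zpow_smul_eq_iff_of_fixed h k
      · intro h
        exact h ⟨s, mem_zpowers s⟩
    have h3 : ¬ 2 ∣ Nat.card (G ⧸ (S : Subgroup G)) := S.not_dvd_index
    rw [h2] at h1
    rw [← Nat.not_even_iff_odd, even_iff_two_dvd, ← Nat.modEq_zero_iff_dvd]
    intro h4
    exact h3 (Nat.modEq_zero_iff_dvd.1 (h1.trans h4))
  -- the transfer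
  have hF₁even : Even F₁.card := by
    have hfin : Fintype (Quotient (orbitRel (zpowers s) (G ⧸ (S : Subgroup G)))) :=
      Fintype.ofFinite _
    have hV := hom_eq_one hG (MonoidHom.transfer (signHom _ hN)) s
    rw [MonoidHom.transfer_eq_prod_quotient_orbitRel_zpowers_quot] at hV
    let P : Quotient (orbitRel (zpowers s) (G ⧸ (S : Subgroup G))) → Prop :=
      fun q => s • q.out = q.out ∧ q.out.out⁻¹ * s * q.out.out ∉ S₀
    have h1 : ∀ q : Quotient (orbitRel (zpowers s) (G ⧸ (S : Subgroup G))),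
        signHom _ hN ⟨q.out.out⁻¹ * s ^ Function.minimalPeriod (s • ·) q.out * q.out.out,
            QuotientGroup.out_conj_pow_minimalPeriod_mem (S : Subgroup G) s q.out⟩ =
          if P q then -1 else 1 := by
      intro q
      by_cases hq : s • q.out = q.out
      · have hm : Function.minimalPeriod (s • ·) q.out = 1 :=
          Function.minimalPeriod_eq_one_iff_isFixedPt.2 hq
        by_cases hq2 : q.out.out⁻¹ * s * q.out.out ∈ S₀
        · rw [if_neg (fun h : P q => h.2 hq2)]
          apply signHom_of_mem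
          rw [mem_subgroupOf]
          simpa only [hm, pow_one] using hq2
        · rw [if_pos (show P q from ⟨hq, hq2⟩)]
          apply signHom_of_not_mem
          rw [mem_subgroupOf]
          simpa only [hm, pow_one] using hq2
      · rw [if_neg (fun h : P q => hq h.1)]
        apply signHom_of_mem
        rw [mem_subgroupOf]
        set m := Function.minimalPeriod (s • ·) q.out with hmdef
        by_contra hcon
        have h2 := hmin _ (QuotientGroup.out_conj_pow_minimalPeriod_mem (S : Subgroup G) s q.out) hcon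
        have h3 : orderOf (q.out.out⁻¹ * s ^ m * q.out.out) = orderOf (s ^ m) := by
          have := (MulAut.conj q.out.out⁻¹).orderOf_eq (s ^ m)
          simpa [MulAut.conj_apply] using this
        rw [← hmdef, h3] at h2
        have hpos : 0 < orderOf s := orderOf_pos s
        have hper : Function.IsPeriodicPt (s • · : G ⧸ (S : Subgroup G) → G ⧸ (S : Subgroup G))
            (orderOf s) q.out := by
          rw [Function.IsPeriodicPt, Function.IsFixedPt, smul_iterate, pow_orderOf_eq_one]
          exact one_smul G q.out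
        have hdvd : m ∣ orderOf s := hper.minimalPeriod_dvd
        have hm0 : m ≠ 0 := fun h => by
          rw [h, zero_dvd_iff] at hdvd
          exact hpos.ne' hdvd
        have hm1 : m ≠ 1 := fun h => hq (Function.minimalPeriod_eq_one_iff_isFixedPt.1 h)
        rw [orderOf_pow' _ hm0, Nat.gcd_eq_right hdvd] at h2
        have h4 : orderOf s / m < orderOf s := Nat.div_lt_self hpos (by omega)
        omega
    rw [Finset.prod_congr rfl (fun q _ => h1 q), Finset.prod_ite, Finset.prod_const_one, mul_one,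
      Finset.prod_const] at hV
    have h2 : (Finset.univ.filter P).card = F₁.card := by
      refine Finset.card_bij (fun q _ => q.out) ?_ ?_ ?_
      · intro q hq
        rw [hF₁]
        exact (Finset.mem_filter.1 hq).2
      · intro q _ q' _ h
        rw [← Quotient.out_eq q, ← Quotient.out_eq q', h]
      · intro x hx
        have hx' := (hF₁ x).1 hx
        have h3 : (⟦x⟧ : Quotient (orbitRel (zpowers s) (G ⧸ (S : Subgroup G)))).out = x := by
          have h4 : (orbitRel (zpowers s) (G ⧸ (S : Subgroup G))) (Quotient.out ⟦x⟧) x :=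
            Quotient.mk_out x
          obtain ⟨⟨_, k, rfl⟩, hk⟩ := h4
          rw [← hk]
          exact zpow_smul_eq_iff_of_fixed hx'.1 k
        refine ⟨⟦x⟧, ?_, h3⟩
        rw [Finset.mem_filter]
        refine ⟨Finset.mem_univ _, ?_⟩
        show s • Quotient.out ⟦x⟧ = Quotient.out ⟦x⟧ ∧ _
        rw [h3]
        exact hx'
    rw [h2] at hV
    exact (neg_one_pow_eq_one_iff_even (by decide)).1 hV
  have hF₀odd : Odd F₀.card := by
    rw [hFcard] at hFodd
    exact (Nat.odd_add.1 hFodd).2 hF₁even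
  -- the action of `C_S(s)`
  let C : Subgroup G := (S : Subgroup G) ⊓ centralizer ({s} : Set G)
  have hC : ∀ c ∈ C, ∀ x : G ⧸ (S : Subgroup G), x ∈ F₀ → c • x ∈ F₀ := by
    intro c hc x hx
    rw [hF₀] at hx ⊢
    have hcs : c * s = s * c := mem_centralizer_singleton_iff.1 hc.2
    have h1 : (c * x.out)⁻¹ * s * (c * x.out) ∈ S₀ := by
      have : (c * x.out)⁻¹ * s * (c * x.out) = x.out⁻¹ * s * x.out := by
        calc (c * x.out)⁻¹ * s * (c * x.out) = x.out⁻¹ * c⁻¹ * (s * c) * x.out := by group
          _ = x.out⁻¹ * c⁻¹ * (c * s) * x.out := by rw [hcs]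
          _ = x.out⁻¹ * s * x.out := by group
      rw [this]
      exact hx
    refine hrep₀ _ _ ?_ h1
    rw [QuotientGroup.out_eq']
    conv_rhs => rw [← QuotientGroup.out_eq' x]
    rfl
  let M : SubMulAction C (G ⧸ (S : Subgroup G)) :=
    { carrier := {x | x ∈ F₀}
      smul_mem' := fun c x hx => hC c c.2 x hx }
  have hC2 : IsPGroup 2 C := S.isPGroup'.to_le inf_le_left
  have hMcard : ¬ 2 ∣ Nat.card M := by
    have h1 : Nat.card M = F₀.card := by
      exact Nat.subtype_card _ (fun x => Iff.rfl)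
    rw [h1, ← even_iff_two_dvd, Nat.not_even_iff_odd]
    exact hF₀odd
  obtain ⟨⟨x, hx⟩, hxfix⟩ := hC2.nonempty_fixed_point_of_prime_not_dvd_card M hMcard
  refine ⟨x.out⁻¹, ?_, ?_⟩
  · rw [inv_inv]
    exact (hF₀ x).1 hx
  · intro c hc hcs
    have h1 := hxfix ⟨c, hc, mem_centralizer_singleton_iff.2 hcs⟩
    have h2 : c • x = x := congrArg Subtype.val h1
    rw [inv_inv]
    have h3 : ((c * x.out : G) : G ⧸ (S : Subgroup G)) = x.out := by
      rw [QuotientGroup.out_eq']
      conv_rhs => rw [← h2, ← QuotientGroup.out_eq' x]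
      rfl
    have h4 := QuotientGroup.eq.1 h3.symm
    rwa [← mul_assoc] at h4

end Cfsg.Agent.ThreePrime.Transfer
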