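import Mathlib
import Cfsg.Agent.ThreePrime.ACFacts
import Cfsg.Agent.TwoFusion.FStarControl
import Cfsg.Agent.Lib.ThompsonPQ
import Cfsg.Agent.Prune
set_option linter.all false
prune_inst 0x7f00000000000000000000000000000000000000000000000000000000000000000000000000000000000000000000000000000000000000000000000000000000000000000000000000000000000000003fffffffffffffffffffffffffffbeffbdffffffff
open scoped Cfsg.Agent.FastGrp

/-!
# Odd order elements centralising `O₂(C(u))` and the components centralised by `u`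
-/

set_option autoImplicit false

namespace Cfsg.Agent.ThreePrime.Pump

open Subgroup
open Cfsg
open Cfsg.Agent.Lib.Cores
open Cfsg.Agent.Lib.ThompsonPQ
open Cfsg.Agent.ThreePrime.Comp
open Cfsg.Agent.ThreePrime.AComp
open Cfsg.Agent.ThreePrime.ACFacts
open Cfsg.Agent.SignalizersComponents.CompBasic
open Cfsg.Agent.SignalizersComponents.Components
open Cfsg.Agent.TwoFusion.FStarControl

universe u

variable {X : Type u} [Group X] [Finite X] {S : Sylow 2 X} {A : Subgroup X}

/-- The Fitting subgroup of a group with trivial core is `O₂(X)`. -/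
theorem fitting_le_pCore (h : Cfsg.oddCore X = ⊥) : fittingSubgroup X ≤ pCore 2 X := by
  have h1 := fitting_le_sup (H := X) 2
  have h2 : pPrimeCore 2 X = ⊥ := h
  rw [h2, inf_bot_eq, sup_bot_eq] at h1
  exact h1

/-- An element of odd order centralising `O₂(X)` and all components is trivial. -/
theorem eq_one_of_centralises (h : Cfsg.oddCore X = ⊥) {y : X} (hy : Odd (orderOf y))
    (hQ : ∀ q ∈ pCore 2 X, y * q = q * y)
    (hK : ∀ K : Subgroup X, IsComponent K → y ∈ centralizer (K : Set X)) : y = 1 := by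
  have h1 : y ∈ centralizer (generalizedFittingSubgroup X : Set X) := by
    have h2 : generalizedFittingSubgroup X ≤ centralizer ({y} : Set X) := by
      refine sup_le ?_ ?_
      · rw [layer_le_iff]
        intro K hKc x hx
        rw [mem_centralizer_singleton_iff]
        exact (mem_centralizer_iff.1 (hK K hKc) x hx)
      · intro x hx
        rw [mem_centralizer_singleton_iff]
        exact (hQ x (fitting_le_pCore h hx)).symm
    rw [mem_centralizer_iff]
    intro x hx
    exact mem_centralizer_singleton_iff.1 (h2 hx)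
  have h2 : y ∈ pCore 2 X := fitting_le_pCore h (centralizer_genFitting_le_fitting h1)
  obtain ⟨n, hn⟩ := pCore_isPGroup (G := X) 2 ⟨y, h2⟩
  have hn' : y ^ 2 ^ n = 1 := congrArg Subtype.val hn
  have h3 : orderOf y ∣ 2 ^ n := orderOf_dvd_of_pow_eq_one hn'
  have h4 : Nat.Coprime (orderOf y) (2 ^ n) := Nat.Coprime.pow_right _ (Nat.coprime_two_right.2 hy)
  exact orderOf_eq_one_iff.mp (Nat.eq_one_of_dvd_coprimes h4 dvd_rfl h3)

omit [Finite X] in
/-- `O₂(X) ∩ C(u) ≤ O₂(C(u))`. -/
theorem inf_le_map_pCore (N : Subgroup X) {Q : Subgroup X} (hQ : Q.Normal) (hQ2 : IsPGroup 2 Q) :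
    Q ⊓ N ≤ (pCore 2 N).map N.subtype := by
  rintro x ⟨hxQ, hxN⟩
  have h1 : Q.subgroupOf N ≤ pCore 2 N := le_pCore inferInstance (by
    exact hQ2.comap_of_injective N.subtype N.subtype_injective)
  exact ⟨⟨x, hxN⟩, h1 hxQ, rfl⟩

omit [Finite X] in
/-- a subnormal 2-subgroup intersected with `N` lies in `O₂(N)`. -/
theorem subnormal_inf_le (N : Subgroup X) {Q : Subgroup X} (hQ : Q.IsSubnormal)
    (hQ2 : IsPGroup 2 (Q ⊓ N : Subgroup X)) : Q ⊓ N ≤ (pCore 2 N).map N.subtype := by
  rintro x ⟨hxQ, hxN⟩
  have h2 : IsPGroup 2 (Q.subgroupOf N) := by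
    intro g
    obtain ⟨n, hn⟩ := hQ2 ⟨((g : N) : X), g.2, (g : N).2⟩
    refine ⟨n, ?_⟩
    have hn' : ((g : N) : X) ^ 2 ^ n = 1 := congrArg Subtype.val hn
    apply Subtype.ext
    apply Subtype.ext
    exact hn'
  have h1 : Q.subgroupOf N ≤ pCore 2 N := subnormal_pGroup_le_pCore hQ.subgroupOf h2
  exact ⟨⟨x, hxN⟩, h1 hxQ, rfl⟩

omit [Finite X] in
/-- an element centralising a non-central element of a component normalises it -/
theorem odd_normalises
    {J : Subgroup X} (hJ : IsComponent J) (hctr : ∀ z ∈ J, (∀ k ∈ J, k * z = z * k) → z = 1)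
    {y b : X} (hb : b ∈ J) (hb1 : b ≠ 1) (hyb : y * b = b * y) : y ∈ normalizer (J : Set X) := by
  by_contra hyJ
  set J' := J.map (MulAut.conj y).toMonoidHom with hJ'
  have hne : J ≠ J' := by
    intro he
    apply hyJ
    rw [Subgroup.mem_normalizer_iff_map_conj_eq]
    exact he.symm
  have hcomm := component_commutator_eq_bot_of_ne hJ (isComponent_conj y hJ) hne
  rw [commutator_eq_bot_iff_le_centralizer] at hcomm
  have hbJ' : b ∈ J' := by
    refine ⟨b, hb, ?_⟩
    show y * b * y⁻¹ = b
    rw [hyb, mul_inv_cancel_right]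
  apply hb1
  apply hctr b hb
  intro k hk
  exact (mem_centralizer_iff.1 (hcomm hk) b hbJ').symm

theorem pump (h : Hyp X) (hA : SC S A) (hT : Good S A) {u y : X} (hu : u ∈ A) (hy : Odd (orderOf y)) (hyu : y * u = u * y)
    (hyQ : ∀ q ∈ (pCore 2 (centralizer ({u} : Set X))).map (centralizer ({u} : Set X)).subtype,
      y * q = q * y)
    (hyK : ∀ K : Subgroup X, IsComponent K → u ∈ centralizer (K : Set X) →
      y ∈ centralizer (K : Set X)) : y = 1 := by
  have hcop : (Nat.card (zpowers y)).Coprime 2 := by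
    rw [Nat.card_zpowers]
    exact Nat.coprime_two_right.2 hy
  have : Fact (Nat.Prime 2) := ⟨Nat.prime_two⟩
  refine eq_one_of_centralises h.core hy ?_ ?_
  · -- `y` centralises `O₂(X)`
    have hP : IsPGroup 2 (zpowers u) := by
      rintro ⟨_, k, rfl⟩
      refine ⟨1, ?_⟩
      apply Subtype.ext
      show (u ^ k) ^ 2 ^ 1 = 1
      rw [pow_one, ← zpow_natCast, zpow_comm, zpow_natCast, pow_two, hA.sq u hu, one_zpow]
    have h1 := thompson_p_times_q 2 (zpowers u) (zpowers y) (pCore 2 X) hP hcop (pCore_isPGroup 2)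
      (by
        rw [zpowers_le, mem_centralizer_iff]
        rintro _ ⟨k, rfl⟩
        exact (Commute.zpow_left hyu k))
      (by rw [normalizer_eq_top]; exact le_top)
      (by rw [normalizer_eq_top]; exact le_top)
      (by
        intro q hq
        have hq1 : q ∈ pCore 2 X ⊓ centralizer ({u} : Set X) := by
          exact ⟨hq.1, mem_centralizer_singleton_iff.2 (mem_centralizer_iff.1 hq.2 u (mem_zpowers u)).symm⟩
        have hq2 := inf_le_map_pCore _ (Cfsg.Agent.Lib.Cores.pCore_normal (G := X) 2) (pCore_isPGroup 2) hq1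
        rw [mem_centralizer_iff]
        rintro _ ⟨k, rfl⟩
        exact (Commute.zpow_left (hyQ q hq2) k))
    intro q hq
    exact (mem_centralizer_iff.1 (h1 (mem_zpowers y)) q hq).symm
  · intro K hK
    by_cases huK : u ∈ centralizer (K : Set X)
    · exact hyK K hK huK
    · have hac := ac h hA hT hK (fun hle => huK (hle hu))
      -- `K ∩ S ≤ O₂(C(u))`
      have h2 : IsPGroup 2 (K ⊓ centralizer ({u} : Set X) : Subgroup X) := by
        refine S.isPGroup'.to_le ?_
        rintro k ⟨hk, hku⟩
        exact hac.fix u hu huK k hk (mem_centralizer_singleton_iff.1 hku)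
      have h3 := subnormal_inf_le (centralizer ({u} : Set X)) hK.1 h2
      have h4 : ∀ t ∈ K, t ∈ (S : Subgroup X) → y * t = t * y := by
        intro t ht htS
        apply hyQ
        apply h3
        exact ⟨ht, mem_centralizer_singleton_iff.2 (hT K hK t ht htS u hu)⟩
      obtain ⟨b, hbA, hbK, hb1⟩ := hac.ex
      have h5 := odd_normalises hK hac.ctr hbK hb1 (h4 b hbK (hA.le hbA))
      exact hac.cent y h5 hy h4

end Cfsg.Agent.ThreePrime.Pump
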